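import Cfsg.Agent.Lib.GLTwoThree.Order
import Cfsg.Agent.Lib.Involutions.ThompsonTransfer
import Cfsg.Prelude.Def_Transfer

/-!
# An involution centralizer `GL(2, 3)` in a group equal to its 2-residual

All involutions are conjugate, and the order is `5616` or `7920`.
-/

set_option autoImplicit false
set_option linter.style.haveILetI false
set_option linter.unusedSectionVars false

namespace Cfsg.Agent.GLTwoThree

open Subgroup

variable {G : Type*} [Group G] [Finite G] {t : G} {φ : GL23 →* G}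

theorem no_index_two (hO : Cfsg.pResidual 2 G = ⊤) (H : Subgroup G) : H.index ≠ 2 := by
  intro hH
  have hle : Cfsg.pResidual 2 G ≤ H := by
    rw [Cfsg.pResidual, closure_le]
    intro g hg
    have hodd : ¬ 2 ∣ orderOf g := fun h => by
      have := Nat.dvd_gcd h (dvd_refl 2)
      rw [show Nat.gcd (orderOf g) 2 = 1 from hg] at this
      omega
    obtain ⟨k, hk⟩ : ∃ k, orderOf g = 2 * k + 1 := ⟨orderOf g / 2, by omega⟩
    have h1 : (g ^ (k + 1)) ^ 2 = g := by
      rw [← pow_mul, show (k + 1) * 2 = orderOf g + 1 by omega, pow_succ, pow_orderOf_eq_one, one_mul]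
    rw [SetLike.mem_coe, ← h1]
    exact sq_mem_of_index_two hH _
  rw [hO, top_le_iff] at hle
  rw [hle, index_top] at hH
  omega

theorem pResidual_eq_top_of_simple [IsSimpleGroup G] {g : G} (hg : g ≠ 1)
    (hodd : Nat.Coprime (orderOf g) 2) : Cfsg.pResidual 2 G = ⊤ := by
  have hn : (Cfsg.pResidual 2 G).Normal := by
    refine ⟨fun n hn c => ?_⟩
    have : (Cfsg.pResidual 2 G).map (MulAut.conj c).toMonoidHom ≤ Cfsg.pResidual 2 G := by
      rw [Cfsg.pResidual, MonoidHom.map_closure, closure_le]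
      rintro _ ⟨a, ha, rfl⟩
      refine subset_closure ?_
      change Nat.Coprime (orderOf ((MulAut.conj c).toMonoidHom a)) 2
      rwa [orderOf_injective _ (MulAut.conj c).injective]
    exact this ⟨n, hn, rfl⟩
  refine hn.eq_bot_or_eq_top.resolve_left fun h => hg ?_
  have : g ∈ Cfsg.pResidual 2 G := subset_closure hodd
  rwa [h, mem_bot] at this

variable (E : Embedded t φ)
include E

theorem Embedded.odd_element : φ Y ^ 2 ≠ 1 ∧ Nat.Coprime (orderOf (φ Y ^ 2)) 2 := by
  have h : orderOf (φ Y ^ 2) = 3 := by rw [orderOf_pow' _ two_ne_zero, E.order_y]; rfl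
  refine ⟨fun e => ?_, by rw [h]; norm_num⟩
  rw [e, orderOf_one] at h
  norm_num at h

/-- A Sylow 2-subgroup containing the element of order eight, of order sixteen. -/
theorem Embedded.exists_sylow : ∃ S : Sylow 2 G, φ X ∈ (S : Subgroup G) ∧ Nat.card (S : Subgroup G) = 16 ∧
    ∀ a ∈ (S : Subgroup G), a * t = t * a := by
  haveI : Fact (Nat.Prime 2) := ⟨Nat.prime_two⟩
  have hX : IsPGroup 2 (zpowers X) := IsPGroup.of_card (n := 3) (by
    rw [Nat.card_zpowers, (orderOf_injective φ E.inj X).symm.trans E.order_x]; rfl)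
  obtain ⟨R, hR⟩ := hX.exists_le_sylow
  have hRc : Nat.card (R : Subgroup GL23) = 16 := by
    rw [Sylow.card_eq_multiplicity, card_GL23]
    decide +kernel
  obtain ⟨S, hS⟩ := (R.2.map φ).exists_le_sylow
  have hxS : φ X ∈ (S : Subgroup G) := hS ⟨X, hR (mem_zpowers X), rfl⟩
  have htS : t ∈ (S : Subgroup G) := by
    rw [← E.hT, ← X_pow.1, map_pow]; exact pow_mem hxS 4
  haveI : Nontrivial (S : Subgroup G) := ⟨⟨⟨t, htS⟩, 1, fun e => by
    have := congrArg (fun a : (S : Subgroup G) => orderOf (a : G)) e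
    simp [E.order_t] at this⟩⟩
  haveI := S.2.center_nontrivial
  obtain ⟨⟨⟨z, hz⟩, hzc⟩, hzo⟩ := exists_prime_orderOf_dvd_card' (G := center (S : Subgroup G)) 2 (by
    obtain ⟨n, hn, hn'⟩ := (S.2.to_subgroup (center (S : Subgroup G))).nontrivial_iff_card.1 inferInstance
    rw [hn']
    exact dvd_pow_self 2 hn.ne')
  rw [orderOf_mk, orderOf_mk] at hzo
  have hcomm : ∀ a ∈ (S : Subgroup G), a * z = z * a := fun a ha =>
    congrArg Subtype.val (mem_center_iff.1 hzc ⟨a, ha⟩)
  obtain ⟨k, rfl⟩ := (E.range z).1 (hcomm t htS).symm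
  obtain ⟨i, rfl⟩ := comm_X (g := k) (E.inj (by rw [map_mul, map_mul]; exact (hcomm _ hxS).symm))
  have hzt : φ (X ^ (i : ℕ)) = t := by
    rw [orderOf_injective φ E.inj, orderOf_pow, (orderOf_injective φ E.inj X).symm.trans E.order_x] at hzo
    have key : ∀ j : Fin 8, 8 / Nat.gcd 8 (j : ℕ) = 2 → (j : ℕ) = 4 := by decide
    have hi := key i hzo
    rw [hi, X_pow.1, E.hT]
  rw [hzt] at hcomm
  refine ⟨S, hxS, ?_, hcomm⟩
  have hle : (S : Subgroup G) ≤ centralizer ({t} : Set G) := fun a ha =>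
    mem_centralizer_singleton_iff.2 (hcomm a ha)
  have hd := card_dvd_of_le hle
  rw [E.card] at hd
  obtain ⟨n, hn⟩ := IsPGroup.iff_card.1 S.2
  have h16 : 16 ≤ 2 ^ n := by
    rw [← hn, ← hRc, Nat.card_congr ((R : Subgroup GL23).equivMapOfInjective φ E.inj).toEquiv]
    exact Nat.le_of_dvd Nat.card_pos (card_dvd_of_le hS)
  rw [hn] at hd ⊢
  have hlt : n < 6 := by
    by_contra hcon
    have h64 := Nat.pow_le_pow_right (show 1 ≤ 2 by norm_num) (show 6 ≤ n by omega)
    have := Nat.le_of_dvd (by norm_num) hd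
    omega
  interval_cases n <;> simp_all

theorem Embedded.all_conj (hO : Cfsg.pResidual 2 G = ⊤) (u : G) (hu : orderOf u = 2) : IsConj t u := by
  obtain ⟨S, hxS, hS, -⟩ := E.exists_sylow
  have hM : zpowers (φ X) ≤ S := zpowers_le.2 hxS
  obtain ⟨g, hg⟩ := Involutions.ThompsonTransfer.exists_conj_mem (no_index_two hO) S (zpowers (φ X)) hM
    (by rw [relIndex, index_eq_card]
        have h := ((zpowers (φ X)).subgroupOf (S : Subgroup G)).index_mul_card
        rw [Nat.card_congr (subgroupOfEquivOfLe hM).toEquiv, Nat.card_zpowers, E.order_x, hS,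
          index_eq_card] at h
        omega) u hu
  obtain ⟨i, hi⟩ := mem_zpowers_iff.1 hg
  have ho : orderOf (φ X ^ i) = 2 := by
    rw [hi, ← hu]; exact orderOf_injective (MulAut.conj g).toMonoidHom (MulAut.conj g).injective u
  rw [← zpow_mod_orderOf, E.order_x] at hi ho
  obtain ⟨j, hj, hj8⟩ : ∃ j : ℕ, i % (8 : ℕ) = j ∧ j < 8 := ⟨(i % 8).toNat, by omega, by omega⟩
  rw [hj, zpow_natCast] at hi ho
  rw [orderOf_pow, E.order_x] at ho
  have h4 : j = 4 := by interval_cases j <;> simp_all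
  rw [h4, ← map_pow, X_pow.1, E.hT] at hi
  exact (isConj_iff.2 ⟨g, hi.symm⟩).symm

theorem Embedded.linear_trivial (hO : Cfsg.pResidual 2 G = ⊤) (lam : G →* ℂˣ) : lam (φ X) = 1 := by
  set k := ordCompl[2] (Nat.card G) with hk
  have hker : Cfsg.pResidual 2 G ≤ (lam ^ k).ker := by
    rw [Cfsg.pResidual, closure_le]
    intro g hg
    rw [SetLike.mem_coe, MonoidHom.mem_ker]
    change lam g ^ k = 1
    obtain ⟨c, hc⟩ : orderOf g ∣ k := by
      have h := orderOf_dvd_natCard g
      rw [← Nat.ordProj_mul_ordCompl_eq_self (Nat.card G) 2] at h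
      exact (Nat.Coprime.pow_right _ hg).dvd_of_dvd_mul_left h
    rw [← map_pow, hc, pow_mul, pow_orderOf_eq_one, one_pow, map_one]
  rw [hO] at hker
  have h1 : lam (φ X) ^ k = 1 := hker (mem_top (φ X))
  have h8 : lam (φ X) ^ 8 = 1 := by rw [← map_pow, ← E.order_x, pow_orderOf_eq_one, map_one]
  have hodd : Nat.Coprime 2 k := Nat.coprime_ordCompl Nat.prime_two Nat.card_pos.ne'
  have hcop : Nat.gcd 8 k = 1 := Nat.Coprime.pow_left 3 hodd
  have := pow_gcd_eq_one.2 ⟨h8, h1⟩
  rwa [hcop, pow_one] at this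

/-- The order of the group, and a bound on the centralizer of an element of order three. -/
theorem Embedded.order' (hO : Cfsg.pResidual 2 G = ⊤) :
    (Nat.card G = 5616 ∧ 18 < Nat.card (centralizer ({φ Y ^ 2} : Set G))) ∨ Nat.card G = 7920 :=
  E.order_cases (fun u _ h2 h1 => E.all_conj hO u (orderOf_eq_prime (p := 2) (by rw [pow_two, h2]) h1))
    (E.linear_trivial hO)

/-- The order of the group. -/
theorem Embedded.order (hO : Cfsg.pResidual 2 G = ⊤) : Nat.card G = 5616 ∨ Nat.card G = 7920 :=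
  (E.order' hO).imp_left And.left

end Cfsg.Agent.GLTwoThree
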