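import Mathlib

/-!
# Permutations of thirteen points inverting the multiplication by three

Either a product with a translation has an order not dividing `24` or `13`, or the permutation is a rescaled
member of a list of three.
-/

set_option autoImplicit false
set_option linter.unusedSectionVars false
set_option maxRecDepth 10000

namespace Cfsg.Agent.GLTwoThree.Perm13

open Subgroup

/-- The value of a table. -/
def app (w : List ℕ) (z : ℕ) : ℕ := w.getD z 0

/-- The composite of two tables. -/
def comp (u v : List ℕ) : List ℕ := v.map (app u)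

/-- The table of a map commuting as `w (3 z) = 9 w z`. -/
def table (a b c d : ℕ) : List ℕ :=
  [0, a, b, 9 * a % 13, c, 3 * b % 13, 9 * b % 13, d, 9 * d % 13, 3 * a % 13, 3 * c % 13, 3 * d % 13,
    9 * c % 13]

/-- The three reference tables. -/
def tri : List (List ℕ) :=
  [[0, 1, 2, 9, 10, 6, 5, 11, 8, 3, 4, 7, 12], [0, 1, 8, 9, 6, 11, 7, 10, 12, 3, 5, 4, 2],
    [0, 1, 12, 9, 11, 10, 4, 6, 2, 3, 7, 5, 8]]

/-- Whether some product with a translation has a bad order. -/
def bad (w : List ℕ) : Bool :=
  (List.range 13).any fun i =>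
    let g := (List.range 13).map fun z => app w ((z + i) % 13)
    let g2 := comp g g
    let g4 := comp g2 g2
    let g8 := comp g4 g4
    comp (comp g8 g8) g8 != List.range 13 && comp g8 (comp g4 g) != List.range 13

/-- Scalars `u`, `v` with `u v = 1`, and the index of a table. -/
def certs : List (ℕ × ℕ × ℕ) :=
  [(1, 1, 0), (7, 2, 0), (12, 12, 0), (5, 8, 0), (1, 1, 1), (1, 1, 2), (8, 5, 2), (4, 10, 2), (7, 2, 1),
    (6, 11, 2), (4, 10, 1), (2, 7, 1)]

theorem certs_inverse : ∀ q ∈ certs, q.1 * q.2.1 % 13 = 1 ∧ q.2.2 < 3 := by decide +kernel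

/-- The classification of one table. -/
def classified (w : List ℕ) : Bool :=
  !decide w.Nodup || bad w ||
    certs.any fun q => w == (List.range 13).map fun z => q.1 * app (tri.getD q.2.2 []) (q.2.1 * z % 13) % 13

theorem all_classified : ∀ a ∈ [1, 2, 4, 7], ∀ b ∈ List.range 13, ∀ c ∈ List.range 13, ∀ d ∈ List.range 13,
    classified (table a b c d) = true := by
  decide +kernel

local notation "P13" => Equiv.Perm (ZMod 13)

/-- The translation by one. -/
def shift : P13 := Equiv.addRight 1

theorem shift_pow (n : ℕ) (z : ZMod 13) : (shift ^ n) z = z + n := by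
  induction n with
  | zero => simp
  | succ n ih => rw [pow_succ', Equiv.Perm.mul_apply, ih]; simp [shift, add_assoc]

/-- The multiplication by a unit. -/
def mu (u v : ZMod 13) (h : u * v = 1) : P13 where
  toFun z := u * z
  invFun z := v * z
  left_inv z := show v * (u * z) = z by rw [← mul_assoc, mul_comm v, h, one_mul]

  right_inv z := show u * (v * z) = z by rw [← mul_assoc, h, one_mul]

/-- The multiplication by three. -/
def mu3 : P13 := mu 3 9 (by decide)

/-- The table of a permutation. -/
def tab (w : P13) : List ℕ := (List.range 13).map fun z : ℕ => (w (z : ZMod 13)).val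

theorem app_tab (w : P13) {z : ℕ} (hz : z < 13) : app (tab w) z = (w (z : ZMod 13)).val := by
  rw [app, tab, List.getD_eq_getElem _ _ (by simpa using hz)]
  simp

theorem comp_tab (u v : P13) : comp (tab u) (tab v) = tab (u * v) := by
  rw [comp, tab, tab, List.map_map]
  refine List.map_congr_left fun z _ => ?_
  rw [Function.comp_apply, ← tab, app_tab _ (ZMod.val_lt _), ZMod.natCast_rightInverse, Equiv.Perm.mul_apply]

theorem tab_one : tab (1 : P13) = List.range 13 := by decide +kernel

theorem tab_injective {u v : P13} (h : tab u = tab v) : u = v := by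
  refine Equiv.ext fun z => ?_
  have := congrArg (fun l => app l z.val) h
  simp only [app_tab _ (ZMod.val_lt _), ZMod.natCast_rightInverse z] at this
  exact ZMod.val_injective 13 this

theorem tab_nodup (w : P13) : (tab w).Nodup := by
  refine List.nodup_range.map_on fun x hx y hy h => ?_
  have hx' := List.mem_range.1 hx
  have hy' := List.mem_range.1 hy
  have := w.injective (ZMod.val_injective 13 h)
  rw [← ZMod.val_cast_of_lt hx', ← ZMod.val_cast_of_lt hy', this]

theorem tab_shift (w : P13) (i : ℕ) :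
    tab (w * shift ^ i) = (List.range 13).map fun z => app (tab w) ((z + i) % 13) := by
  refine List.map_congr_left fun z _ => ?_
  rw [app_tab _ (Nat.mod_lt _ (by norm_num)), Equiv.Perm.mul_apply, shift_pow, ZMod.natCast_mod, Nat.cast_add]

theorem not_bad {K : Subgroup P13} (hs : shift ∈ K) (hsp : ∀ g ∈ K, g ^ 24 = 1 ∨ g ^ 13 = 1) {w : P13}
    (hw : w ∈ K) : bad (tab w) = false := by
  rw [bad, List.any_eq_false]
  intro i _
  simp only [← tab_shift, comp_tab, ne_eq, Bool.and_eq_true, bne_iff_ne, not_and, not_not]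
  set g := w * shift ^ i
  intro h
  have hg : g ∈ K := mul_mem hw (pow_mem hs _)
  rcases hsp g hg with e | e
  · exfalso
    refine h ?_
    rw [show g * g * (g * g) * (g * g * (g * g)) * (g * g * (g * g) * (g * g * (g * g))) *
        (g * g * (g * g) * (g * g * (g * g))) = g ^ 24 by simp only [pow_succ, pow_zero, one_mul, mul_assoc],
      e, tab_one]
  · rw [show g * g * (g * g) * (g * g * (g * g)) * (g * g * (g * g) * g) = g ^ 13 by
      simp only [pow_succ, pow_zero, one_mul, mul_assoc], e, tab_one]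

theorem tab_spec {w : P13} (h0 : w 0 = 0) (h : ∀ z, w (3 * z) = 9 * w z) :
    tab w = table (w 1).val (w 2).val (w 4).val (w 7).val := by
  have e3 : w 3 = 9 * w 1 := by simpa using h 1
  have e9 : w 9 = 3 * w 1 := by
    have := h 3
    rw [e3, ← mul_assoc] at this
    exact this.trans (by congr 1)
  have e6 : w 6 = 9 * w 2 := h 2
  have e5 : w 5 = 3 * w 2 := by
    have := h 6
    rw [e6, ← mul_assoc] at this
    exact this.trans (by congr 1)
  have e12 : w 12 = 9 * w 4 := h 4
  have e10 : w 10 = 3 * w 4 := by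
    have := h 12
    rw [e12, ← mul_assoc] at this
    exact this.trans (by congr 1)
  have e8 : w 8 = 9 * w 7 := h 7
  have e11 : w 11 = 3 * w 7 := by
    have := h 8
    rw [e8, ← mul_assoc] at this
    exact this.trans (by congr 1)
  simp only [tab, table, List.range_succ, List.range_zero, List.map_nil, List.map_cons,
    List.nil_append, List.cons_append, Nat.cast_zero, Nat.cast_one, Nat.cast_ofNat, h0, e3, e9, e6, e5, e12,
    e10, e8, e11, ZMod.val_mul, ZMod.val_zero]
  rfl

/-- The permutations of the reference tables. -/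
theorem exists_tri (k : ℕ) (hk : k < 3) : ∃ q : P13, tab q = tri.getD k [] := by
  have hinj : ∀ l ∈ tri, ∀ y z : ZMod 13, ((app l y.val : ℕ) : ZMod 13) = app l z.val → y = z := by decide +kernel
  have hmem : tri.getD k [] ∈ tri := by interval_cases k <;> simp [tri]
  refine ⟨Equiv.ofBijective _ (Finite.injective_iff_bijective.1 fun y z e => hinj _ hmem y z e), ?_⟩
  interval_cases k <;> rfl

theorem mu3_fixed : ∀ z : ZMod 13, 3 * z = z → z = 0 := by decide +kernel

theorem normalize_one : ∀ y : ZMod 13, y ≠ 0 → ∃ i : Fin 3, (3 ^ i.val * y).val ∈ [1, 2, 4, 7] := by decide +kernel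

theorem mu3_pow (i : ℕ) (z : ZMod 13) : (mu3 ^ i) z = 3 ^ i * z := by
  induction i with
  | zero => simp
  | succ n ih => rw [pow_succ', Equiv.Perm.mul_apply, ih, pow_succ', mul_assoc]; rfl

/-- A group with a translation, the multiplication by three, an element inverting the latter and a restricted set of
orders is conjugate to a group with one of the three reference permutations. -/
theorem exists_normal_form {K : Subgroup P13} (hs : shift ∈ K) (h3 : mu3 ∈ K)
    (hsp : ∀ g ∈ K, g ^ 24 = 1 ∨ g ^ 13 = 1) (hr : ∃ g ∈ K, g * mu3 * g⁻¹ = mu3⁻¹) :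
    ∃ c q : P13, ∃ k < 3, tab q = tri.getD k [] ∧ shift ∈ K.map (MulAut.conj c).toMonoidHom ∧
      mu3 ∈ K.map (MulAut.conj c).toMonoidHom ∧ q ∈ K.map (MulAut.conj c).toMonoidHom := by
  obtain ⟨g, hg, e⟩ := hr
  have hg3 : ∀ z, g (3 * z) = 9 * g z := by
    intro z
    have := Equiv.congr_fun (mul_inv_eq_iff_eq_mul.1 e) z
    exact this
  have hg0 : g 0 = 0 := by
    apply mu3_fixed
    have := hg3 0
    rw [mul_zero] at this
    calc 3 * g 0 = 3 * (9 * g 0) := by rw [← this]
      _ = 1 * g 0 := by rw [← mul_assoc]; rfl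
      _ = g 0 := one_mul _
  obtain ⟨i, hi⟩ := normalize_one (g 1) (fun h => absurd (g.injective (h.trans hg0.symm)) (by decide))
  set w := mu3 ^ i.val * g
  have hw : w ∈ K := mul_mem (pow_mem h3 _) hg
  have hwz : ∀ z, w z = 3 ^ i.val * g z := fun z => mu3_pow _ _
  have hw3 : ∀ z, w (3 * z) = 9 * w z := fun z => by rw [hwz, hwz, hg3]; ring
  have hw0 : w 0 = 0 := by rw [hwz, hg0, mul_zero]
  have hcl := all_classified (w 1).val (by rw [hwz]; exact hi) (w 2).val (List.mem_range.2 (ZMod.val_lt _))
    (w 4).val (List.mem_range.2 (ZMod.val_lt _)) (w 7).val (List.mem_range.2 (ZMod.val_lt _))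
  rw [← tab_spec hw0 hw3, classified, not_bad hs hsp hw, decide_eq_true (tab_nodup w)] at hcl
  simp only [Bool.not_true, Bool.or_self, Bool.false_or, List.any_eq_true, beq_iff_eq] at hcl
  obtain ⟨⟨u, v, k⟩, hmem, hq⟩ := hcl
  obtain ⟨huv, hk⟩ := certs_inverse _ hmem
  obtain ⟨q, hqk⟩ := exists_tri k hk
  have huv' : (u : ZMod 13) * v = 1 := by
    rw [← Nat.cast_mul, ← ZMod.natCast_mod, huv, Nat.cast_one]
  have hvu' : (v : ZMod 13) * u = 1 := by rw [mul_comm, huv']
  have hwq : ∀ z, w z = u * q (v * z) := by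
    intro z
    have h1 := congrArg (fun l => app l z.val) hq
    simp only [app_tab _ (ZMod.val_lt _), ZMod.natCast_rightInverse z] at h1
    rw [app, List.getD_eq_getElem _ _ (by simpa using ZMod.val_lt z), List.getElem_map, List.getElem_range, ← hqk,
      app_tab _ (Nat.mod_lt _ (by norm_num))] at h1
    apply ZMod.val_injective
    rw [h1, ZMod.val_mul, ZMod.natCast_mod, Nat.cast_mul, ZMod.natCast_rightInverse z, ZMod.val_natCast,
      Nat.mod_mul_mod]
  set c := mu (v : ZMod 13) u hvu'
  have hc : ∀ (x : P13) z, (c * x * c⁻¹) z = v * x (u * z) := fun x z => rfl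
  refine ⟨c, q, k, hk, hqk, ⟨shift ^ u, pow_mem hs _, ?_⟩, ⟨mu3, h3, ?_⟩, ⟨w, hw, ?_⟩⟩
  · refine Equiv.ext fun z => ?_
    show (c * shift ^ u * c⁻¹) z = _
    rw [hc, shift_pow, mul_add, ← mul_assoc, hvu', one_mul]
    rfl
  · refine Equiv.ext fun z => ?_
    show (c * mu3 * c⁻¹) z = (3 : ZMod 13) * z
    rw [hc]
    show (v : ZMod 13) * (3 * (u * z)) = _
    rw [← mul_assoc, ← mul_assoc, mul_comm (v : ZMod 13) 3, mul_assoc (3 : ZMod 13), hvu', mul_one]
  · refine Equiv.ext fun z => ?_
    show (c * w * c⁻¹) z = _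
    rw [hc, hwq, ← mul_assoc (v : ZMod 13) (u : ZMod 13) z, hvu', one_mul, ← mul_assoc, hvu', one_mul]

theorem shift_ne_one : shift ≠ 1 := fun h =>
  absurd (Equiv.congr_fun h 0) (show (0 : ZMod 13) + 1 ≠ 0 by decide)

theorem shift_pow_thirteen : shift ^ 13 = 1 := Equiv.ext fun z => by
  rw [shift_pow, Equiv.Perm.one_apply]; exact add_eq_left.2 (by decide)

theorem not_normalizing : ∀ l ∈ tri, ∀ j ∈ List.range 13, ∃ z ∈ List.range 13,
    app l ((z + 1) % 13) ≠ (app l z + j) % 13 := by
  decide +kernel

/-- A group of order `5616` with a translation, the multiplication by three and a reference permutation is generated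
by them. -/
theorem closure_eq {K : Subgroup P13} (hK : Nat.card K = 5616) {q : P13} {k : ℕ} (hk : k < 3)
    (hq : tab q = tri.getD k []) (hs : shift ∈ K) (h3 : mu3 ∈ K) (hqK : q ∈ K) :
    closure {shift, mu3, q} = K := by
  have hu3 : (3 : ZMod 13) ^ 3 = 1 ∧ (3 : ZMod 13) * 1 ≠ 1 := by decide
  haveI : Fact (Nat.Prime 13) := ⟨by norm_num⟩
  set H := closure ({shift, mu3, q} : Set P13)
  have hle : H ≤ K := (closure_le K).2 (by
    rintro x (rfl | rfl | rfl) <;> assumption)
  have hdvd : Nat.card H ∣ 5616 := hK ▸ card_dvd_of_le hle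
  set a : H := ⟨shift, subset_closure (by simp)⟩
  set b : H := ⟨mu3, subset_closure (by simp)⟩
  set r : H := ⟨q, subset_closure (by simp)⟩
  have ha : orderOf a = 13 := orderOf_eq_prime (Subtype.ext shift_pow_thirteen)
    fun h => shift_ne_one (congrArg Subtype.val h)
  obtain ⟨m, hm⟩ : orderOf a ∣ Nat.card H := orderOf_dvd_natCard a
  rw [ha] at hm
  have hm' : m ∣ 432 := Nat.dvd_of_mul_dvd_mul_left (by norm_num : 0 < 13) (hm ▸ hdvd)
  have hfac : (Nat.card H).factorization 13 = 1 := by
    rw [hm, Nat.factorization_mul (by norm_num) (fun h => by rw [h] at hm'; simp at hm'),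
      Finsupp.add_apply, Nat.Prime.factorization_self (by norm_num),
      Nat.factorization_eq_zero_of_not_dvd fun h => absurd (h.trans hm') (by norm_num)]
  have hP : Nat.card (zpowers a) = 13 ^ (Nat.card H).factorization 13 := by
    rw [Nat.card_zpowers, ha, hfac, pow_one]
  set P : Sylow 13 H := Sylow.ofCard (zpowers a) hP
  have hPa : (P : Subgroup H) = zpowers a := Sylow.coe_ofCard _ hP
  have hb : b ∈ normalizer ((P : Subgroup H) : Set H) := by
    rw [hPa, Subgroup.mem_normalizer_iff]
    have e : b * a * b⁻¹ = a ^ 3 := by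
      apply Subtype.ext
      refine Equiv.ext fun z => ?_
      show mu3 (shift (mu3⁻¹ z)) = (shift ^ 3) z
      rw [shift_pow]
      show (3 : ZMod 13) * (9 * z + 1) = z + 3
      rw [mul_add, mul_one, ← mul_assoc]
      exact congrArg (· + 3) (one_mul z)
    have hmap : (zpowers a).map (MulAut.conj b).toMonoidHom = zpowers a := by
      rw [MonoidHom.map_zpowers]
      have hco : orderOf (a ^ 3) = 13 := by
        rw [orderOf_pow' _ (by norm_num), ha]; rfl
      refine (Subgroup.eq_of_le_of_card_ge ?_ ?_)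
      · rw [zpowers_le]; show b * a * b⁻¹ ∈ _; rw [e]; exact pow_mem (mem_zpowers a) 3
      · rw [Nat.card_zpowers, Nat.card_zpowers, ha]
        show 13 ≤ orderOf (b * a * b⁻¹)
        rw [e, hco]
    intro x
    conv_rhs => rw [← hmap]
    constructor
    · exact fun hx => ⟨x, hx, rfl⟩
    · rintro ⟨y, hy, e'⟩
      rwa [show x = y from mul_left_cancel (mul_right_cancel e'.symm)]
  have h39 : 39 ∣ Nat.card (normalizer ((P : Subgroup H) : Set H)) := by
    have h13 : 13 ∣ Nat.card (normalizer ((P : Subgroup H) : Set H)) := by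
      have := card_dvd_of_le (le_normalizer (H := (P : Subgroup H)))
      rwa [hPa, Nat.card_zpowers, ha, ← hPa] at this
    have hb3 : orderOf b = 3 := orderOf_eq_prime
      (Subtype.ext (Equiv.ext fun z => (mu3_pow 3 z).trans (by
        rw [hu3.1, one_mul]; rfl)))
      fun h => by
        have := Equiv.congr_fun (congrArg Subtype.val h) 1
        exact hu3.2 this
    have h3' : 3 ∣ Nat.card (normalizer ((P : Subgroup H) : Set H)) := by
      have := orderOf_dvd_natCard (⟨b, hb⟩ : normalizer ((P : Subgroup H) : Set H))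
      rwa [← Subgroup.orderOf_coe, hb3] at this
    exact Nat.Coprime.mul_dvd_of_dvd_of_dvd (by norm_num : Nat.Coprime 3 13) h3' h13
  have hcard : Nat.card (Sylow 13 H) * Nat.card (normalizer ((P : Subgroup H) : Set H)) = Nat.card H := by
    rw [Sylow.card_eq_index_normalizer P]; exact Subgroup.index_mul_card _
  have hn1 : Nat.card (Sylow 13 H) ≠ 1 := by
    intro h1
    rw [h1, one_mul] at hcard
    have hr : r ∈ normalizer ((P : Subgroup H) : Set H) := by
      rw [Subgroup.eq_top_of_card_eq _ hcard]; exact mem_top r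
    rw [hPa, Subgroup.mem_normalizer_iff] at hr
    obtain ⟨j, hj⟩ := mem_zpowers_iff_mem_range_orderOf.1 ((hr a).1 (mem_zpowers a)) |> Finset.mem_image.1
    rw [ha, Finset.mem_range] at hj
    obtain ⟨z, hz, hne⟩ := not_normalizing _ (show tri.getD k [] ∈ tri by interval_cases k <;> simp [tri]) j
      (List.mem_range.2 hj.1)
    refine hne ?_
    have e : q * shift = shift ^ j * q := by
      have := congrArg Subtype.val hj.2
      exact mul_inv_eq_iff_eq_mul.1 this.symm
    have e2 := congrArg ZMod.val (Equiv.congr_fun e ((z : ℕ) : ZMod 13))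
    rw [List.mem_range] at hz
    rw [← hq, app_tab _ (Nat.mod_lt _ (by norm_num)), app_tab _ hz, ZMod.natCast_mod, Nat.cast_add,
      Nat.cast_one]
    refine e2.trans ?_
    rw [Equiv.Perm.mul_apply, shift_pow, ZMod.val_add, ZMod.val_natCast, Nat.add_mod_mod]
  have hn13 := card_sylow_modEq_one 13 H
  have hndvd : Nat.card (Sylow 13 H) ∣ 432 := by
    obtain ⟨t, ht⟩ := h39
    have : Nat.card (Sylow 13 H) * (3 * t) * 13 ∣ 432 * 13 := by
      refine dvd_trans (dvd_of_eq ?_) hdvd
      rw [← hcard, ht]; ring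
    exact (Dvd.intro _ rfl).trans (Nat.dvd_of_mul_dvd_mul_right (by norm_num) this)
  have hn : Nat.card (Sylow 13 H) = 27 ∨ Nat.card (Sylow 13 H) = 144 := by
    have hkey : ∀ n < 433, n ∣ 432 → n % 13 = 1 → n ≠ 1 → n = 27 ∨ n = 144 := by decide
    exact hkey _ (Nat.lt_succ_of_le (Nat.le_of_dvd (by norm_num) hndvd)) hndvd hn13 hn1
  obtain ⟨t, ht⟩ := h39
  rw [ht] at hcard
  refine Subgroup.eq_of_le_of_card_ge hle ?_
  rw [hK]
  rcases hn with e | e <;> rw [e] at hcard
  · exfalso
    have : 27 * (39 * t) ∣ 5616 := hcard ▸ hdvd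
    have := (show 27 * 39 ∣ 27 * (39 * t) from ⟨t, by ring⟩).trans this
    norm_num at this
  · rw [← hcard]
    rcases Nat.eq_zero_or_pos t with rfl | ht0
    · exfalso
      have := Nat.card_pos (α := H)
      omega
    · omega

end Cfsg.Agent.GLTwoThree.Perm13
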