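import Mathlib
import Cfsg.Agent.Lib.GLTwoThree.Perm13
import Cfsg.Agent.Recognition.PlaneThree.Model

/-!
# The group of order `5616` on thirteen points

A permutation group of this order with a translation, the multiplication by three and an inverting element, with
restricted orders, is the special linear group in dimension three over three elements.
-/

set_option autoImplicit false

namespace Cfsg.Agent.GLTwoThree.Model33

open Matrix Perm13
open Cfsg.Agent.Recognition.PlaneThree (SL33)

/-- The points. -/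
def pt (z : ZMod 13) : Fin 3 → ZMod 3 := Cfsg.Agent.Recognition.PlaneThree.vec ⟨z.val, ZMod.val_lt z⟩

/-- The number of the point through a vector. -/
def idx (w : Fin 3 → ZMod 3) : ZMod 13 :=
  (((List.range 13).find? fun i : ℕ => decide (pt (i : ZMod 13) = w ∨ pt (i : ZMod 13) = -w)).getD 0 : ℕ)

theorem idx_spec : ∀ w : Fin 3 → ZMod 3, w ≠ 0 → pt (idx w) = w ∨ pt (idx w) = -w := by decide +kernel

theorem idx_neg : ∀ w : Fin 3 → ZMod 3, idx (-w) = idx w := by decide +kernel

theorem idx_pt : ∀ z, idx (pt z) = z := by decide +kernel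

theorem pt_ne_zero : ∀ z, pt z ≠ 0 := by decide +kernel

/-- The action on points. -/
def act (A : SL33) (z : ZMod 13) : ZMod 13 := idx ((A : Matrix (Fin 3) (Fin 3) (ZMod 3)) *ᵥ pt z)

theorem act_one (z : ZMod 13) : act 1 z = z := by
  show idx ((1 : Matrix (Fin 3) (Fin 3) (ZMod 3)) *ᵥ pt z) = z
  rw [one_mulVec, idx_pt]

theorem act_mul (A B : SL33) (z : ZMod 13) : act (A * B) z = act A (act B z) := by
  have hne : (B : Matrix (Fin 3) (Fin 3) (ZMod 3)) *ᵥ pt z ≠ 0 := by
    intro h
    refine pt_ne_zero z ?_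
    have := congrArg (fun w => ((B⁻¹ : SL33) : Matrix (Fin 3) (Fin 3) (ZMod 3)) *ᵥ w) h
    simp only [mulVec_mulVec, mulVec_zero] at this
    rw [show ((B⁻¹ : SL33) : Matrix (Fin 3) (Fin 3) (ZMod 3)) * B = 1 from congrArg Subtype.val (inv_mul_cancel B),
      one_mulVec] at this
    exact this
  show idx ((A.1 * B.1) *ᵥ pt z) = idx (A.1 *ᵥ pt (idx (B.1 *ᵥ pt z)))
  rw [← mulVec_mulVec]
  rcases idx_spec _ hne with e | e
  · rw [e]
  · rw [e, mulVec_neg, idx_neg]

/-- The action as permutations. -/
def perm : SL33 →* Equiv.Perm (ZMod 13) where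
  toFun A :=
    { toFun := act A
      invFun := act A⁻¹
      left_inv := fun z => show act A⁻¹ (act A z) = z by rw [← act_mul, inv_mul_cancel, act_one]
      right_inv := fun z => show act A (act A⁻¹ z) = z by rw [← act_mul, mul_inv_cancel, act_one] }
  map_one' := Equiv.ext act_one
  map_mul' A B := Equiv.ext (act_mul A B)

/-- The translation. -/
def shiftMat : SL33 := ⟨!![0, 0, 1; 1, 0, 1; 0, 1, 0], by decide +kernel⟩

/-- The multiplication by three. -/
def mu3Mat : SL33 := ⟨!![1, 1, 1; 0, 1, 2; 0, 0, 1], by decide +kernel⟩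

theorem det_tri : ∀ x : ZMod 3, (!![2, 0, x; 0, 1, 0; 0, 0, 2] : Matrix (Fin 3) (Fin 3) (ZMod 3)).det = 1 := by
  decide +kernel

/-- The reference permutations. -/
def triMat (x : ZMod 3) : SL33 := ⟨!![2, 0, x; 0, 1, 0; 0, 0, 2], det_tri x⟩

theorem perm_shift : perm shiftMat = shift := Equiv.ext (by decide +kernel)

theorem perm_mu3 : perm mu3Mat = mu3 := Equiv.ext (by decide +kernel)

theorem perm_tri : ∀ k : Fin 3, tab (perm (triMat ([0, 2, 1].getD k.val 0))) = tri.getD k.val [] := by
  decide +kernel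

theorem perm_injective : Function.Injective perm := by
  rw [← MonoidHom.ker_eq_bot_iff]
  refine (Subgroup.Normal.eq_bot_or_eq_top (H := perm.ker) inferInstance).resolve_right fun h => ?_
  have := MonoidHom.mem_ker.1 (show shiftMat ∈ perm.ker from h ▸ Subgroup.mem_top _)
  rw [perm_shift] at this
  exact shift_ne_one this

theorem card_range : Nat.card perm.range = 5616 := by
  rw [← Nat.card_congr (MonoidHom.ofInjective perm_injective).toEquiv]
  exact Cfsg.Agent.Recognition.PlaneThree.card_SL33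

/-- A permutation group of order `5616` as in the file's description. -/
theorem nonempty_equiv {K : Subgroup (Equiv.Perm (ZMod 13))} (hK : Nat.card K = 5616) (hs : shift ∈ K)
    (h3 : mu3 ∈ K) (hsp : ∀ g ∈ K, g ^ 24 = 1 ∨ g ^ 13 = 1) (hr : ∃ g ∈ K, g * mu3 * g⁻¹ = mu3⁻¹) :
    Nonempty (K ≃* Matrix.ProjectiveSpecialLinearGroup (Fin 3) (ZMod 3)) := by
  obtain ⟨c, q, k, hk, hq, hs', h3', hq'⟩ := exists_normal_form hs h3 hsp hr
  have e := Subgroup.equivMapOfInjective K (MulAut.conj c).toMonoidHom (MulAut.conj c).injective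
  have h1 := closure_eq ((Nat.card_congr e.toEquiv).symm.trans hK) hk hq hs' h3' hq'
  have h2 := closure_eq card_range hk hq ⟨shiftMat, perm_shift⟩ ⟨mu3Mat, perm_mu3⟩
    ⟨triMat ([0, 2, 1].getD k 0), tab_injective ((perm_tri ⟨k, hk⟩).trans hq.symm)⟩
  exact ⟨e.trans ((MulEquiv.subgroupCongr (h1.symm.trans h2)).trans
    ((MonoidHom.ofInjective perm_injective).symm.trans Cfsg.Agent.Recognition.PlaneThree.projEquiv))⟩

end Cfsg.Agent.GLTwoThree.Model33
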