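import Cfsg.Agent.Lib.GLTwoThree.Index13
import Cfsg.Agent.Lib.GLTwoThree.Model33
import Cfsg.Agent.Lib.Perm.PrimeDegree

/-!
# The simple group of order `5616`
-/

set_option autoImplicit false
set_option linter.style.haveILetI false
set_option linter.unusedSectionVars false

namespace Cfsg.Agent.GLTwoThree

open Subgroup

theorem pow_twentyfour (k : GL23) : k ^ 24 = 1 := by
  have key : ∀ m : M23, (∃ g : GL23, g.val = m) → m ^ 24 = 1 := by
    intro m hm
    have h : ∀ a b c d : ZMod 3, a * d - b * c ≠ 0 → mat a b c d ^ 24 = 1 := by decide +kernel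
    obtain ⟨g, rfl⟩ := hm
    exact mat_cases (P := fun m => m ^ 24 = 1) h g
  exact Units.ext (by rw [Units.val_pow_eq_pow_val, key _ ⟨k, rfl⟩]; rfl)

theorem three_ne : (3 : ZMod 13) * 1 ≠ 1 := by decide +kernel

variable {G : Type*} [Group G] [Finite G] {t : G} {φ : GL23 →* G} (E : Embedded t φ)
include E

theorem Embedded.pow_of_even (hall : ∀ u : G, orderOf u = 2 → IsConj t u) {g : G} (hg : 2 ∣ orderOf g) :
    g ^ 24 = 1 := by
  obtain ⟨n, hn⟩ := hg
  have hn0 : n ≠ 0 := by
    rintro rfl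
    exact (orderOf_pos g).ne' hn
  have hu : orderOf (g ^ n) = 2 := by
    rw [orderOf_pow' _ hn0, hn, Nat.gcd_mul_left_left, Nat.mul_div_cancel _ (Nat.pos_of_ne_zero hn0)]
  obtain ⟨c, hc⟩ := isConj_iff.1 (hall _ hu)
  have hcomm : (c⁻¹ * g * c) * t = t * (c⁻¹ * g * c) := by
    calc (c⁻¹ * g * c) * t = c⁻¹ * (g * (c * t * c⁻¹)) * c := by group
      _ = c⁻¹ * (c * t * c⁻¹ * g) * c := by rw [hc, ← pow_succ', ← pow_succ]
      _ = t * (c⁻¹ * g * c) := by group
  obtain ⟨k, hk⟩ := (E.range _).1 hcomm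
  have h24 : (c⁻¹ * g * c) ^ 24 = 1 := by rw [← hk, ← map_pow, pow_twentyfour, map_one]
  have e : c * (c⁻¹ * g * c) * c⁻¹ = g := by group
  rw [← e, conj_pow, h24, mul_one, mul_inv_cancel]

/-- The centralizer of an element of order thirteen and the normalizer of its group. -/
theorem Embedded.thirteen [IsSimpleGroup G] (hcard : Nat.card G = 5616) (hall : ∀ u : G, orderOf u = 2 → IsConj t u)
    {a : G} (ha : orderOf a = 13) :
    Nat.card (centralizer ({a} : Set G)) = 13 ∧ Nat.card (normalizer (zpowers a : Set G)) = 39 := by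
  haveI : Fact (Nat.Prime 13) := ⟨by norm_num⟩
  haveI : Fact (Nat.Prime 2) := ⟨Nat.prime_two⟩
  have hna : ¬ IsMulCommutative G := SmallSimple.Basic.not_comm_of_not_prime (by rw [hcard]; norm_num)
  have hfac : (Nat.card G).factorization 13 = 1 := by
    rw [hcard, show 5616 = 13 * 432 by norm_num, Nat.factorization_mul (by norm_num) (by norm_num),
      Finsupp.add_apply, Nat.Prime.factorization_self (by norm_num),
      Nat.factorization_eq_zero_of_not_dvd (by norm_num)]
  have hP : Nat.card (zpowers a) = 13 ^ (Nat.card G).factorization 13 := by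
    rw [Nat.card_zpowers, ha, hfac, pow_one]
  set P : Sylow 13 G := Sylow.ofCard (zpowers a) hP
  have hPa : (P : Subgroup G) = zpowers a := Sylow.coe_ofCard _ hP
  obtain ⟨hn, hmod, h1, -⟩ := SmallSimple.Basic.sylow_count hna (p := 13) (a := 1) (m := 432)
    (by rw [hcard]; norm_num) (hcard.trans (by norm_num)) (by norm_num)
  have hmul := SmallSimple.Basic.card_normalizer_mul P
  rw [hPa, hcard] at hmul
  have hcCN : centralizer ({a} : Set G) ≤ normalizer (zpowers a : Set G) := by
    intro x hx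
    rw [mem_centralizer_singleton_iff] at hx
    rw [mem_normalizer_iff]
    have hcom : ∀ y ∈ zpowers a, x * y * x⁻¹ = y := by
      rintro _ ⟨i, rfl⟩
      rw [((show Commute x a from hx).zpow_right i).eq, mul_inv_cancel_right]
    intro y
    constructor
    · intro hy; rw [hcom y hy]; exact hy
    · intro hy
      have h2 := hcom _ hy
      have e : x * y * x⁻¹ = y := mul_left_cancel (mul_right_cancel h2)
      rwa [e] at hy
  have haC : zpowers a ≤ centralizer ({a} : Set G) :=
    zpowers_le.2 (mem_centralizer_singleton_iff.2 rfl)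
  have h13C : 13 ∣ Nat.card (centralizer ({a} : Set G)) := by
    have := card_dvd_of_le haC
    rwa [Nat.card_zpowers, ha] at this
  have hodd : ¬ 2 ∣ Nat.card (centralizer ({a} : Set G)) := by
    intro h2
    obtain ⟨⟨u, hu⟩, huo⟩ := exists_prime_orderOf_dvd_card' (G := centralizer ({a} : Set G)) 2 h2
    rw [orderOf_mk] at huo
    obtain ⟨c, hc⟩ := isConj_iff.1 (hall u huo)
    have hmem : c⁻¹ * a * c ∈ centralizer ({t} : Set G) := by
      rw [mem_centralizer_singleton_iff] at hu ⊢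
      calc (c⁻¹ * a * c) * t = c⁻¹ * (a * (c * t * c⁻¹)) * c := by group
        _ = c⁻¹ * (c * t * c⁻¹ * a) * c := by rw [hc, hu]
        _ = t * (c⁻¹ * a * c) := by group
    have h13 := orderOf_dvd_natCard (⟨_, hmem⟩ : centralizer ({t} : Set G))
    rw [orderOf_mk, E.card] at h13
    have e : orderOf (c⁻¹ * a * c) = 13 := by
      have h := orderOf_injective (MulAut.conj c⁻¹).toMonoidHom (MulAut.conj c⁻¹).injective a
      rw [ha] at h
      simpa [MulAut.conj_apply] using h
    rw [e] at h13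
    norm_num at h13
  have hC : Nat.card (centralizer ({a} : Set G)) ∣ Nat.card (normalizer (zpowers a : Set G)) := card_dvd_of_le hcCN
  -- the action on the Sylow subgroup
  have hAut : Nat.card (normalizer (zpowers a : Set G)) ∣ Nat.card (centralizer ({a} : Set G)) * 12 := by
    set N := normalizer (zpowers a : Set G)
    have hcard12 : Nat.card (MulAut (zpowers a)) = 12 := by
      haveI : IsCyclic (zpowers a) := inferInstance
      rw [IsCyclic.card_mulAut, Nat.card_zpowers, ha]
      rfl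
    let f := (normalizerMonoidHom (zpowers a))
    have hk : f.ker = (centralizer (zpowers a : Set G)).subgroupOf N := normalizerMonoidHom_ker _
    have h1 : Nat.card f.range ∣ 12 := hcard12 ▸ card_subgroup_dvd_card _
    have h2 := f.ker.card_mul_index
    rw [index_ker] at h2
    rw [← h2]
    refine mul_dvd_mul ?_ h1
    rw [hk]
    have hle : centralizer (zpowers a : Set G) ≤ centralizer ({a} : Set G) :=
      centralizer_le (by simp [mem_zpowers])
    refine (card_comap_dvd_of_injective _ N.subtype N.subtype_injective).trans (card_dvd_of_le hle)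
  have key : ∀ n < 433, n ∣ 432 → n % 13 = 1 → 1 < n → n = 27 ∨ n = 144 := by decide +kernel
  rcases key _ (Nat.lt_succ_of_le (Nat.le_of_dvd (by norm_num) hn)) hn hmod h1 with e | e <;> rw [e] at hmul
  · exfalso
    have hN : Nat.card (normalizer (zpowers a : Set G)) = 208 := by omega
    rw [hN] at hC hAut
    have key2 : ∀ c ≤ 208, c ∣ 208 → 13 ∣ c → 208 ∣ c * 12 → 2 ∣ c := by decide +kernel
    exact hodd (key2 _ (Nat.le_of_dvd (by norm_num) hC) hC h13C hAut)
  · have hN : Nat.card (normalizer (zpowers a : Set G)) = 39 := by omega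
    refine ⟨?_, hN⟩
    rw [hN] at hC
    have key3 : ∀ c ≤ 39, c ∣ 39 → 13 ∣ c → c = 13 ∨ c = 39 := by decide +kernel
    refine (key3 _ (Nat.le_of_dvd (by norm_num) hC) hC h13C).resolve_right fun h39 => ?_
    refine SmallSimple.Basic.not_normalizer_le_centralizer hna (p := 13) (by rw [hcard]; norm_num) P ?_
    rw [hPa, ← eq_of_le_of_card_ge hcCN (by rw [hN, h39])]
    intro x hx
    rw [mem_centralizer_singleton_iff] at hx
    rw [mem_centralizer_iff]
    rintro _ ⟨i, rfl⟩
    exact ((show Commute x a from hx).zpow_right i).eq.symm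

theorem Embedded.spectrum [IsSimpleGroup G] (hcard : Nat.card G = 5616) (hall : ∀ u : G, orderOf u = 2 → IsConj t u)
    {s c : G} {P : Sylow 3 G} (D : ThreeData t s c P) (g : G) :
    (g ^ 24 = 1 ∨ g ^ 13 = 1) ∧ (orderOf g = 3 → IsConj g g⁻¹) := by
  haveI : Fact (Nat.Prime 3) := ⟨Nat.prime_three⟩
  have hthree : ∀ n : ℕ, g ^ (3 ^ n) = 1 → g ^ 3 = 1 ∧ IsConj g g⁻¹ := by
    intro n hn
    obtain ⟨k, hk, hko⟩ := (Nat.dvd_prime_pow Nat.prime_three).1 (orderOf_dvd_of_pow_eq_one hn)
    obtain ⟨Q, hQ⟩ := (IsPGroup.of_card (p := 3) (n := k) (G := zpowers g)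
      (by rw [Nat.card_zpowers, hko])).exists_le_sylow
    obtain ⟨y, hy⟩ := MulAction.exists_smul_eq G P Q
    have hgQ : g ∈ ((y • P : Sylow 3 G) : Subgroup G) := hy ▸ hQ (mem_zpowers g)
    rw [Sylow.coe_subgroup_smul] at hgQ
    obtain ⟨x, hx, hxg⟩ := hgQ
    replace hxg : y * x * y⁻¹ = g := hxg
    obtain ⟨h3, hr⟩ := D.exp_real hcard hx
    refine ⟨?_, ?_⟩
    · rw [← hxg, conj_pow, h3, mul_one, mul_inv_cancel]
    · have e : IsConj x g := isConj_iff.2 ⟨y, hxg⟩
      have e' : IsConj x⁻¹ g⁻¹ := isConj_iff.2 ⟨y, by rw [← hxg]; group⟩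
      exact e.symm.trans (hr.trans e')
  refine ⟨?_, fun h3 => (hthree 1 (by rw [pow_one, ← h3, pow_orderOf_eq_one])).2⟩
  have hd : orderOf g ∣ 5616 := hcard ▸ orderOf_dvd_natCard g
  by_cases h2 : 2 ∣ orderOf g
  · exact .inl (E.pow_of_even hall h2)
  by_cases h13 : 13 ∣ orderOf g
  · obtain ⟨n, hn⟩ := h13
    have ha : orderOf (g ^ n) = 13 := by
      have hn0 : n ≠ 0 := by
        rintro rfl
        exact (orderOf_pos g).ne' hn
      rw [orderOf_pow' _ hn0, hn, Nat.gcd_mul_left_left, Nat.mul_div_cancel _ (Nat.pos_of_ne_zero hn0)]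
    refine .inr ?_
    have hmem : g ∈ centralizer ({g ^ n} : Set G) :=
      mem_centralizer_singleton_iff.2 (Commute.self_pow g n).eq
    have h := orderOf_dvd_natCard (⟨g, hmem⟩ : centralizer ({g ^ n} : Set G))
    rw [orderOf_mk, (E.thirteen hcard hall ha).1] at h
    exact orderOf_dvd_iff_pow_eq_one.1 h
  · left
    have h27 : orderOf g ∣ 27 := by
      have hc : Nat.Coprime (orderOf g) (16 * 13) := Nat.Coprime.mul_right
        ((Nat.coprime_pow_right_iff (by norm_num : 0 < 4) _ 2).2 (Nat.prime_two.coprime_iff_not_dvd.2 h2).symm)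
        ((Nat.Prime.coprime_iff_not_dvd (by norm_num)).2 h13).symm
      exact hc.dvd_of_dvd_mul_left (by norm_num; exact hd)
    have := (hthree 3 (orderOf_dvd_iff_pow_eq_one.1 h27)).1
    rw [show 24 = 3 * 8 from rfl, pow_mul, this, one_pow]

theorem Embedded.equiv_PSL [IsSimpleGroup G] (hcard : Nat.card G = 5616) (hall : ∀ u : G, orderOf u = 2 → IsConj t u)
    {s c : G} {P : Sylow 3 G} (D : ThreeData t s c P) :
    Nonempty (G ≃* Matrix.ProjectiveSpecialLinearGroup (Fin 3) (ZMod 3)) := by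
  classical
  haveI : Fact (Nat.Prime 13) := ⟨by norm_num⟩
  haveI : Fact (Nat.Prime 3) := ⟨Nat.prime_three⟩
  obtain ⟨H, hH⟩ := D.exists_index hcard
  have hHt : H ≠ ⊤ := fun h => by rw [h, index_top] at hH; norm_num at hH
  let f := MulAction.toPermHom G (G ⧸ H)
  have hf : Function.Injective f := SmallSimple.Basic.toPermHom_injective H hHt
  let R := f.range
  haveI : MulAction.IsPretransitive R (G ⧸ H) := ⟨fun x y => by
    obtain ⟨g, hg⟩ := MulAction.exists_smul_eq G x y
    exact ⟨⟨f g, g, rfl⟩, hg⟩⟩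
  obtain ⟨e, u, -, hu⟩ := Cfsg.Agent.Perm.PrimeDegree.exists_coord (p := 13) (by rw [← index_eq_card, hH]) R
  let θ : Equiv.Perm (G ⧸ H) ≃* Equiv.Perm (ZMod 13) := e.symm.permCongrHom
  let K : Subgroup (Equiv.Perm (ZMod 13)) := R.map θ.toMonoidHom
  let ψ : G ≃* K := (MonoidHom.ofInjective hf).trans (R.equivMapOfInjective θ.toMonoidHom θ.injective)
  have hK : Nat.card K = 5616 := by rw [← Nat.card_congr ψ.toEquiv, hcard]
  have hs : Perm13.shift ∈ K := ⟨u, u.2, Equiv.ext fun z => by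
    show e.symm ((u : Equiv.Perm (G ⧸ H)) (e z)) = _
    exact e.symm_apply_eq.2 (hu z)⟩
  set a := ψ.symm ⟨Perm13.shift, hs⟩
  have ha : orderOf a = 13 := by
    rw [MulEquiv.orderOf_eq, orderOf_mk]
    exact orderOf_eq_prime Perm13.shift_pow_thirteen Perm13.shift_ne_one
  obtain ⟨hC, hN⟩ := E.thirteen hcard hall ha
  obtain ⟨⟨b, hbN⟩, hb⟩ := exists_prime_orderOf_dvd_card' (G := normalizer (zpowers a : Set G)) 3
    (by rw [hN]; norm_num)
  rw [orderOf_mk] at hb
  have hb3 : b * b * b = 1 := by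
    have := pow_orderOf_eq_one b
    rwa [hb, pow_succ, pow_two] at this
  obtain ⟨i, hi⟩ := (mem_normalizer_iff.1 hbN a).1 (mem_zpowers a)
  simp only at hi
  set j := (i % 13).toNat
  have hj : b * a * b⁻¹ = a ^ j := by
    rw [← hi, ← zpow_natCast, Int.toNat_of_nonneg (Int.emod_nonneg _ (by norm_num))]
    conv_lhs => rw [← zpow_mod_orderOf a i, ha]
    rfl
  have hj13 : j < 13 := by omega
  have hpow : ∀ m : ℕ, b * a ^ m * b⁻¹ = a ^ (j * m) := fun m => by rw [← conj_pow, hj, ← pow_mul]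
  have hj3 : j * (j * j) % 13 = 1 := by
    have h1 : b * (b * (b * a * b⁻¹) * b⁻¹) * b⁻¹ = a ^ (j * (j * j)) := by rw [hj, hpow, hpow]
    rw [show b * (b * (b * a * b⁻¹) * b⁻¹) * b⁻¹ = (b * b * b) * a * (b * b * b)⁻¹ by group, hb3, one_mul,
      inv_one, mul_one] at h1
    have h2 := (pow_eq_pow_iff_modEq (n := 1) (m := j * (j * j))).1 ((pow_one a).trans h1)
    rw [ha] at h2
    exact h2.symm
  have key : ∀ n < 13, n * (n * n) % 13 = 1 → n = 1 ∨ n = 3 ∨ n = 9 := by decide
  obtain ⟨β, hβ⟩ : ∃ β : G, β * a * β⁻¹ = a ^ 3 := by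
    rcases key j hj13 hj3 with e1 | e1 | e1
    · exfalso
      rw [e1, pow_one] at hj
      have hbC : b ∈ centralizer ({a} : Set G) := mem_centralizer_singleton_iff.2 (mul_inv_eq_iff_eq_mul.1 hj)
      have h := orderOf_dvd_natCard (⟨b, hbC⟩ : centralizer ({a} : Set G))
      rw [orderOf_mk, hb, hC] at h
      norm_num at h
    · exact ⟨b, by rw [hj, e1]⟩
    · refine ⟨b * b, ?_⟩
      have h9 := hpow 9
      rw [e1] at h9
      rw [show b * b * a * (b * b)⁻¹ = b * (b * a * b⁻¹) * b⁻¹ by group, hj, e1, h9,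
        show 9 * 9 = 13 * 6 + 3 from rfl, pow_add, pow_mul, ← ha, pow_orderOf_eq_one, one_pow, one_mul]
  -- the image is affine
  set w := (ψ β : Equiv.Perm (ZMod 13))
  have hw : ∀ z, w (z + 1) = w z + 3 := by
    intro z
    have h1 := congrArg (fun x : G => (ψ x : Equiv.Perm (ZMod 13))) (mul_inv_eq_iff_eq_mul.1 hβ)
    simp only [map_mul, map_pow, Subgroup.coe_mul, SubgroupClass.coe_pow, a, MulEquiv.apply_symm_apply] at h1
    have h2 := Equiv.congr_fun h1 z
    rw [Equiv.Perm.mul_apply, Equiv.Perm.mul_apply, Perm13.shift_pow] at h2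
    exact h2
  have hw' : ∀ n : ℕ, w (n : ZMod 13) = w 0 + 3 * n := by
    intro n
    induction n with
    | zero => simp
    | succ n ih => rw [Nat.cast_succ, hw, ih]; ring
  have h3 : Perm13.mu3 ∈ K := by
    have e2 : Perm13.mu3 = (Perm13.shift ^ (w 0).val)⁻¹ * w := by
      refine eq_inv_mul_iff_mul_eq.2 (Equiv.ext fun z => ?_)
      rw [Equiv.Perm.mul_apply, Perm13.shift_pow, ← ZMod.natCast_zmod_val z, hw', ZMod.natCast_zmod_val,
        ZMod.natCast_zmod_val, add_comm]
      rfl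
    rw [e2]
    exact mul_mem (inv_mem (pow_mem hs _)) (ψ β).2
  obtain ⟨k⟩ := Model33.nonempty_equiv hK hs h3 (fun g hg => by
      have h := (E.spectrum hcard hall D (ψ.symm ⟨g, hg⟩)).1
      rcases h with h | h <;> [left; right] <;>
        simpa using congrArg (fun x : G => ((ψ x : K) : Equiv.Perm (ZMod 13))) h)
    (by
      have ho : orderOf (ψ.symm ⟨Perm13.mu3, h3⟩) = 3 := by
        rw [MulEquiv.orderOf_eq, orderOf_mk]
        refine orderOf_eq_prime (Equiv.ext fun z => ?_) fun h => ?_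
        · rw [Perm13.mu3_pow, Equiv.Perm.one_apply]
          exact (congrArg (· * z) (show (3 : ZMod 13) ^ 3 = 1 from rfl)).trans (one_mul z)
        · exact absurd (Equiv.congr_fun h 1) three_ne
      obtain ⟨g, hg⟩ := isConj_iff.1 ((E.spectrum hcard hall D _).2 ho)
      refine ⟨ψ g, (ψ g).2, ?_⟩
      simpa using congrArg (fun x : G => ((ψ x : K) : Equiv.Perm (ZMod 13))) hg)
  exact ⟨ψ.trans k⟩

end Cfsg.Agent.GLTwoThree
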