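import Cfsg.Agent.Lib.GLTwoThree.Fusion

/-!
# A group equal to its 2-residual with an involution centralizer `GL(2, 3)` is simple
-/

set_option autoImplicit false
set_option linter.style.haveILetI false
set_option linter.unusedSectionVars false
set_option maxRecDepth 10000
set_option synthInstance.maxSize 1000

namespace Cfsg.Agent.GLTwoThree

open Subgroup

/-- The elements of square one, as matrices. -/
def sqOne : List M23 :=
  [mat 1 0 0 1, mat 0 1 1 0, mat 0 2 2 0, mat 1 0 0 2, mat 1 0 1 2, mat 1 0 2 2, mat 1 1 0 2,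
   mat 1 2 0 2, mat 2 0 0 1, mat 2 0 0 2, mat 2 0 1 1, mat 2 0 2 1, mat 2 1 0 1, mat 2 2 0 1]

theorem sqOne_sq : ∀ m ∈ sqOne, m * m = 1 := by decide +kernel

theorem three_involutions (g : GL23) : ∃ a b c : GL23, g = a * b * c ∧ a * a = 1 ∧ b * b = 1 ∧ c * c = 1 := by
  have h : ∃ a ∈ sqOne, ∃ b ∈ sqOne, ∃ c ∈ sqOne, g.val = a * b * c :=
    mat_cases (P := fun m => ∃ a ∈ sqOne, ∃ b ∈ sqOne, ∃ c ∈ sqOne, m = a * b * c) (by decide +kernel) g
  obtain ⟨a, ha, b, hb, c, hc, e⟩ := h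
  exact ⟨⟨a, a, sqOne_sq a ha, sqOne_sq a ha⟩, ⟨b, b, sqOne_sq b hb, sqOne_sq b hb⟩,
    ⟨c, c, sqOne_sq c hc, sqOne_sq c hc⟩, Units.ext e, Units.ext (sqOne_sq a ha), Units.ext (sqOne_sq b hb),
    Units.ext (sqOne_sq c hc)⟩

/-- The elements of order three are conjugate. -/
theorem three_cases {g : GL23} (h : g ^ 3 = 1) : g = 1 ∨ ∃ k : GL23, k * Y ^ 2 = g * k := by
  rw [ext_val, Units.val_pow_eq_pow_val, Units.val_one] at h
  simp only [ext_val, Units.val_mul, Units.val_one, Units.val_pow_eq_pow_val]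
  suffices h' : g.val = 1 ∨ ∃ a b c d : ZMod 3,
      a * d - b * c ≠ 0 ∧ mat a b c d * Y.val ^ 2 = g.val * mat a b c d by
    refine h'.imp_right ?_
    rintro ⟨a, b, c, d, hd, he⟩
    refine ⟨Matrix.GeneralLinearGroup.mkOfDetNeZero (mat a b c d) ?_, he⟩
    rw [mat, Matrix.det_fin_two]
    simpa using hd
  revert h
  exact mat_cases (P := fun m => m ^ 3 = 1 → m = 1 ∨ ∃ a b c d : ZMod 3,
      a * d - b * c ≠ 0 ∧ mat a b c d * Y.val ^ 2 = m * mat a b c d) (by decide +kernel) g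

/-- An involution moving the Sylow 3-subgroup of `Y`. -/
def J : GL23 := ⟨!![0, 1; 1, 0], !![0, 1; 1, 0], by decide +kernel, by decide +kernel⟩

theorem J_facts : (Y ^ 2 * (J * Y ^ 2 * J⁻¹)) ^ 4 = 1 ∧ Y ^ 2 * (J * Y ^ 2 * J⁻¹) ≠ 1 := by
  simp only [ne_eq, ext_val, Units.val_pow_eq_pow_val, Units.val_mul, Units.val_one]
  decide +kernel

variable {G : Type*} [Group G] [Finite G] {t : G} {φ : GL23 →* G} (E : Embedded t φ)
include E

theorem Embedded.le_of_involutions {N : Subgroup G} (hN : ∀ u : G, u * u = 1 → u ∈ N) (k : GL23) : φ k ∈ N := by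
  obtain ⟨a, b, c, rfl, ha, hb, hc⟩ := three_involutions k
  have h : ∀ a : GL23, a * a = 1 → φ a ∈ N := fun a ha => hN _ (by rw [← map_mul, ha, map_one])
  rw [map_mul, map_mul]
  exact mul_mem (mul_mem (h a ha) (h b hb)) (h c hc)

/-- The group is simple. -/
theorem Embedded.isSimple (hO : Cfsg.pResidual 2 G = ⊤) : IsSimpleGroup G := by
  classical
  haveI : Fact (Nat.Prime 2) := ⟨Nat.prime_two⟩
  have ht := E.order_t
  haveI : Nontrivial G := ⟨⟨t, 1, fun e => by rw [e, orderOf_one] at ht; norm_num at ht⟩⟩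
  have hall := E.all_conj hO
  have sq : ∀ u : G, u * u = 1 → u = 1 ∨ IsConj t u := fun u h =>
    or_iff_not_imp_left.2 fun h1 => hall u (orderOf_eq_prime (p := 2) (by rw [pow_two, h]) h1)
  refine ⟨fun N hN => ?_⟩
  by_cases h2 : 2 ∣ Nat.card N
  · right
    obtain ⟨⟨u, huN⟩, hu⟩ := exists_prime_orderOf_dvd_card' (G := N) 2 h2
    rw [orderOf_mk] at hu
    have htN : t ∈ N := by
      obtain ⟨g, hg⟩ := isConj_iff.1 (hall u hu).symm
      exact hg ▸ hN.conj_mem u huN g
    have hinv : ∀ v : G, v * v = 1 → v ∈ N := fun v hv => by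
      rcases sq v hv with rfl | hc
      · exact one_mem N
      · obtain ⟨g, rfl⟩ := isConj_iff.1 hc
        exact hN.conj_mem t htN g
    obtain ⟨S, hxS, -, hSt⟩ := E.exists_sylow
    have hSN : (S : Subgroup G) ≤ N := fun a ha => by
      obtain ⟨k, rfl⟩ := (E.range a).1 (hSt a ha)
      exact E.le_of_involutions hinv k
    haveI := hN
    have hF := Sylow.normalizer_sup_eq_top' S hSN
    rw [eq_top_iff, ← hF]
    refine sup_le (fun g hg => ?_) le_rfl
    have htS : t ∈ (S : Subgroup G) := by rw [← E.hT, ← X_pow.1, map_pow]; exact pow_mem hxS 4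
    have hmem := (mem_normalizer_iff.1 hg t).1 htS
    obtain ⟨k, hk⟩ := (E.range _).1 (hSt _ hmem)
    have hsame : ∀ a ∈ (S : Subgroup G), a * (g * t * g⁻¹) = g * t * g⁻¹ * a := by
      intro a ha
      have ha' : g⁻¹ * a * g ∈ (S : Subgroup G) := by
        simpa using (mem_normalizer_iff.1 (inv_mem hg) a).1 ha
      have h := hSt _ ha'
      calc a * (g * t * g⁻¹) = g * (g⁻¹ * a * g * t) * g⁻¹ := by group
        _ = g * (t * (g⁻¹ * a * g)) * g⁻¹ := by rw [h]
        _ = _ := by group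
    have hkX : k * X = X * k := E.inj (by rw [map_mul, map_mul, hk]; exact (hsame _ hxS).symm)
    obtain ⟨i, rfl⟩ := comm_X hkX
    have ho : orderOf (φ (X ^ (i : ℕ))) = 2 := by
      rw [hk, ← ht]; exact orderOf_injective (MulAut.conj g).toMonoidHom (MulAut.conj g).injective t
    rw [map_pow, orderOf_pow, E.order_x] at ho
    have key : ∀ j : Fin 8, 8 / Nat.gcd 8 (j : ℕ) = 2 → (j : ℕ) = 4 := by decide
    rw [key i ho, X_pow.1, E.hT] at hk
    have hgt : g * t = t * g := mul_inv_eq_iff_eq_mul.1 hk.symm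
    obtain ⟨k', rfl⟩ := (E.range g).1 hgt
    exact E.le_of_involutions hinv k'
  · left
    have hodd : ∀ n ∈ N, n * n = 1 → n = 1 := fun n hn h => by
      by_contra h1
      have ho : orderOf n = 2 := orderOf_eq_prime (p := 2) (by rw [pow_two, h]) h1
      have := orderOf_dvd_natCard (⟨n, hn⟩ : N)
      rw [orderOf_mk, ho] at this
      exact h2 this
    have hcent : ∀ n ∈ N, n * t = t * n → n = 1 := by
      intro n hn hc
      obtain ⟨k, rfl⟩ := (E.range n).1 hc
      by_contra hne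
      have hk : orderOf k ∣ 48 := card_GL23 ▸ orderOf_dvd_natCard k
      have hk' : ¬ 2 ∣ orderOf k := fun h => h2 (h.trans (by
        have := orderOf_dvd_natCard (⟨φ k, hn⟩ : N)
        rwa [orderOf_mk, orderOf_injective φ E.inj] at this))
      have hk3 : orderOf k = 3 := by
        have hne1 : orderOf k ≠ 1 := fun h => hne (by rw [orderOf_eq_one_iff.1 h, map_one])
        have key : ∀ m ∈ Nat.divisors 48, ¬ 2 ∣ m → m ≠ 1 → m = 3 := by decide
        exact key _ (Nat.mem_divisors.2 ⟨hk, by norm_num⟩) hk' hne1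
      haveI hN' : (N.comap φ).Normal := hN.comap φ
      have hk1 : k ≠ 1 := fun e => hne (by rw [e, map_one])
      obtain ⟨l, hl⟩ := (three_cases (g := k) (orderOf_dvd_iff_pow_eq_one.1 (dvd_of_eq hk3))).resolve_left hk1
      have hY : Y ^ 2 ∈ N.comap φ := by
        have := hN'.conj_mem k hn l⁻¹
        rwa [inv_inv, mul_assoc, ← hl, ← mul_assoc, inv_mul_cancel, one_mul] at this
      have hp : Y ^ 2 * (J * Y ^ 2 * J⁻¹) ∈ N.comap φ := mul_mem hY (hN'.conj_mem _ hY J)
      obtain ⟨hp4, hp1⟩ := J_facts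
      set p := Y ^ 2 * (J * Y ^ 2 * J⁻¹)
      have h1 : φ p * φ p = 1 := hodd _ (mul_mem hp hp) (by
        rw [← map_mul, ← map_mul, ← pow_two, ← pow_two, ← pow_mul, hp4, map_one])
      exact hp1 (E.inj (by rw [map_one]; exact hodd _ hp h1))
    have hinvert : ∀ n ∈ N, t * n * t = n⁻¹ := by
      haveI := Fintype.ofFinite N
      have htt : t * t = 1 := by rw [← pow_two, ← ht, pow_orderOf_eq_one]
      have hti : t⁻¹ = t := inv_eq_of_mul_eq_one_right htt
      let f : N → N := fun n => ⟨(n : G)⁻¹ * (t * n * t⁻¹), mul_mem (inv_mem n.2) (hN.conj_mem _ n.2 t)⟩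
      have hf : Function.Injective f := by
        intro a b hab
        have h : (a : G)⁻¹ * (t * a * t⁻¹) = (b : G)⁻¹ * (t * b * t⁻¹) := congrArg Subtype.val hab
        have h' : (b : G) * (a : G)⁻¹ * t = t * ((b : G) * (a : G)⁻¹) := by
          calc (b : G) * (a : G)⁻¹ * t = (b : G) * ((a : G)⁻¹ * (t * a * t⁻¹)) * t * (a : G)⁻¹ := by group
            _ = (b : G) * ((b : G)⁻¹ * (t * b * t⁻¹)) * t * (a : G)⁻¹ := by rw [h]
            _ = t * ((b : G) * (a : G)⁻¹) := by group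
        have := hcent _ (mul_mem b.2 (inv_mem a.2)) h'
        exact Subtype.ext (mul_inv_eq_one.1 this).symm
      intro n hn
      obtain ⟨m, hm⟩ := (Finite.injective_iff_surjective.1 hf) ⟨n, hn⟩
      have h : (m : G)⁻¹ * (t * m * t⁻¹) = n := congrArg Subtype.val hm
      rw [← h, hti]
      calc t * ((m : G)⁻¹ * (t * m * t)) * t = t * (m : G)⁻¹ * t * m * (t * t) := by group
        _ = t * (m : G)⁻¹ * t⁻¹ * m := by rw [htt, hti, mul_one]
        _ = ((m : G)⁻¹ * (t * m * t⁻¹))⁻¹ := by group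
        _ = ((m : G)⁻¹ * (t * m * t))⁻¹ := by rw [hti]
    rw [eq_bot_iff]
    intro n hn
    rw [mem_bot]
    have hconjn : ∀ u : G, u * u = 1 → u ≠ 1 → u * n * u = n⁻¹ := by
      intro u hu hu1
      obtain ⟨g, rfl⟩ := isConj_iff.1 ((sq u hu).resolve_left hu1)
      have h := hinvert _ (hN.conj_mem n hn g⁻¹)
      calc g * t * g⁻¹ * n * (g * t * g⁻¹) = g * (t * (g⁻¹ * n * g⁻¹⁻¹) * t) * g⁻¹ := by group
        _ = n⁻¹ := by rw [h]; group
    obtain ⟨w1, w2, w3, -, -⟩ := W_facts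
    have htw : t * φ W = φ W * t := by rw [← E.hT, ← map_mul, ← map_mul, T_central]
    have hsq : (t * φ W) * (t * φ W) = 1 := by
      rw [show t * φ W * (t * φ W) = t * (φ W * t) * φ W by group, ← htw,
        show t * (t * φ W) * φ W = (t * t) * (φ W * φ W) by group, ← map_mul, w1, map_one, mul_one,
        ← pow_two, ← ht, pow_orderOf_eq_one]
    have hne : t * φ W ≠ 1 := fun e => by
      refine w3 (E.inj ?_)
      rw [E.hT, ← inv_eq_of_mul_eq_one_right e, ← pow_two_inv ht]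
    have h1 := hconjn _ hsq hne
    have h2' := hconjn (φ W) (by rw [← map_mul, w1, map_one]) (fun e => w2 (E.inj (by rw [e, map_one])))
    have htn := hinvert n hn
    have : n = n⁻¹ := by
      calc n = (n⁻¹)⁻¹ := (inv_inv n).symm
        _ = (t * n * t)⁻¹ := by rw [htn]
        _ = t * n⁻¹ * t := by
          rw [mul_inv_rev, mul_inv_rev, ← pow_two_inv ht]; group
        _ = t * (φ W * n * φ W) * t := by rw [h2']
        _ = t * φ W * n * (φ W * t) := by group
        _ = t * φ W * n * (t * φ W) := by rw [htw]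
        _ = n⁻¹ := h1
    exact hodd n hn (by nth_rewrite 2 [this]; rw [mul_inv_cancel])
where
  pow_two_inv {u : G} (hu : orderOf u = 2) : u = u⁻¹ :=
    (inv_eq_of_mul_eq_one_right (by rw [← pow_two, ← hu, pow_orderOf_eq_one])).symm

end Cfsg.Agent.GLTwoThree
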