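import Cfsg.Agent.Lib.GLTwoThree.Three
import Cfsg.Agent.Lib.SmallSimple.Basic

/-!
# A subgroup of index thirteen in the group of order `5616`
-/

set_option autoImplicit false
set_option linter.style.haveILetI false
set_option linter.unusedSectionVars false

namespace Cfsg.Agent.GLTwoThree

open Subgroup

/-- An involution without fixed points on a subgroup inverts it. -/
theorem inverts_of_fixed_free {G : Type*} [Group G] [Finite G] {H : Subgroup G} {u : G} (hu : u * u = 1)
    (hmap : ∀ a ∈ H, u * a * u ∈ H) (hfree : ∀ a ∈ H, a * u = u * a → a = 1) :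
    ∀ a ∈ H, u * a * u = a⁻¹ := by
  have hui : u⁻¹ = u := inv_eq_of_mul_eq_one_right hu
  let f : H → H := fun a => ⟨(a : G)⁻¹ * (u * a * u), mul_mem (inv_mem a.2) (hmap a a.2)⟩
  have hf : Function.Injective f := by
    intro a b hab
    have h : (a : G)⁻¹ * (u * a * u) = (b : G)⁻¹ * (u * b * u) := congrArg Subtype.val hab
    have h1 : u * a * u = (a : G) * (b : G)⁻¹ * (u * b * u) := by
      conv_rhs => rw [mul_assoc, ← h, mul_inv_cancel_left]
    have h2 : u * ((b : G) * (a : G)⁻¹) * u = (b : G) * (a : G)⁻¹ := by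
      calc u * ((b : G) * (a : G)⁻¹) * u = (u * b * u) * (u * a * u)⁻¹ * (u * u) := by group
        _ = (u * b * u) * (u * a * u)⁻¹ := by rw [hu, mul_one]
        _ = (b : G) * (a : G)⁻¹ := by rw [h1]; group
    have h3 := hfree _ (mul_mem b.2 (inv_mem a.2)) (by
      nth_rewrite 1 [← h2]
      rw [mul_assoc (u * _), hu, mul_one])
    exact Subtype.ext (mul_inv_eq_one.1 h3).symm
  intro n hn
  obtain ⟨a, ha⟩ := (Finite.injective_iff_surjective.1 hf) ⟨n, hn⟩
  have h : (a : G)⁻¹ * (u * a * u) = n := congrArg Subtype.val ha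
  rw [← h]
  calc u * ((a : G)⁻¹ * (u * a * u)) * u = u * (a : G)⁻¹ * u * a * (u * u) := by group
    _ = u⁻¹ * (a : G)⁻¹ * u⁻¹ * a := by rw [hu, mul_one, hui]
    _ = _ := by group

variable {G : Type*} [Group G] [Finite G] {t s c : G} {P : Sylow 3 G} (D : ThreeData t s c P)
include D

theorem ThreeData.ti : t⁻¹ = t := inv_eq_of_mul_eq_one_right D.tt

theorem ThreeData.si : s⁻¹ = s := inv_eq_of_mul_eq_one_right D.ss

theorem ThreeData.t_mem {a : G} (ha : a ∈ (P : Subgroup G)) : t * a * t ∈ (P : Subgroup G) := by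
  have := (mem_normalizer_iff.1 (D.normal t (Or.inl D.t_c)) a).1 ha
  rwa [D.ti] at this

theorem ThreeData.s_mem {a : G} (ha : a ∈ (P : Subgroup G)) : s * a * s ∈ (P : Subgroup G) := by
  have := (mem_normalizer_iff.1 (D.normal s (Or.inr D.s_c)) a).1 ha
  rwa [D.si] at this

theorem ThreeData.t_z {z : G} (hz : z ∈ zpowers c) : t * z = z * t := by
  obtain ⟨i, rfl⟩ := hz
  exact ((show Commute t c from D.t_c).zpow_right i).eq

theorem ThreeData.s_z {z : G} (hz : z ∈ zpowers c) : s * z * s⁻¹ = z⁻¹ := by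
  obtain ⟨i, rfl⟩ := hz
  simp only
  rw [← conj_zpow, D.s_c, inv_zpow]

theorem ThreeData.cases_z {z : G} (hz : z ∈ zpowers c) : z = 1 ∨ z = c ∨ z = c⁻¹ := by
  obtain ⟨i, rfl⟩ := hz
  simp only
  rw [← zpow_mod_orderOf, D.hc]
  rcases (by omega : i % (3 : ℕ) = 0 ∨ i % (3 : ℕ) = 1 ∨ i % (3 : ℕ) = 2) with e | e | e <;> rw [e]
  · exact Or.inl (zpow_zero c)
  · exact Or.inr (Or.inl (zpow_one c))
  · right; right
    rw [show (2 : ℤ) = -1 + (orderOf c : ℤ) by rw [D.hc]; rfl, zpow_add, zpow_natCast, pow_orderOf_eq_one,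
      mul_one, zpow_neg_one]

/-- Some element of order three of `P` commutes with `s`; it is inverted by `t` and conjugate to `c`. -/
theorem ThreeData.exists_fixed : ∃ z ∈ (P : Subgroup G), z * s = s * z ∧ orderOf z = 3 ∧ t * z * t = z⁻¹ ∧
    z ∉ zpowers c ∧ IsConj c z := by
  classical
  haveI : Fact (Nat.Prime 3) := ⟨Nat.prime_three⟩
  set Q := (P : Subgroup G) ⊓ centralizer ({s} : Set G) with hQ
  have hQ3 : Nat.card Q ≤ 3 := D.small s D.conj_s Q (P.2.to_le inf_le_left)
    fun a ha => mem_centralizer_singleton_iff.1 ha.2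
  have hne : Q ≠ ⊥ := by
    intro hbot
    have hfix : ∀ a ∈ (P : Subgroup G), a * s = s * a → a = 1 := fun a ha h => by
      have hm : a ∈ Q := ⟨ha, mem_centralizer_singleton_iff.2 h⟩
      rwa [hbot, mem_bot] at hm
    have hinv := inverts_of_fixed_free D.ss (fun a ha => D.s_mem ha) hfix
    have hcomm : ∀ a ∈ (P : Subgroup G), ∀ b ∈ (P : Subgroup G), a * b = b * a := by
      intro a ha b hb
      have e : (a * b)⁻¹ = a⁻¹ * b⁻¹ := by
        rw [← hinv _ (mul_mem ha hb), ← hinv a ha, ← hinv b hb,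
          show s * a * s * (s * b * s) = s * a * (s * s) * b * s by group, D.ss]
        group
      rw [mul_inv_rev] at e
      have := congrArg Inv.inv e
      simpa [mul_inv_rev] using this
    have hTS : ∀ a ∈ (P : Subgroup G), (a * (t * a * t)⁻¹) * (t * s) = t * s * (a * (t * a * t)⁻¹) := by
      intro a ha
      set b := a * (t * a * t)⁻¹ with hb
      have hbP : b ∈ (P : Subgroup G) := mul_mem ha (inv_mem (D.t_mem ha))
      have htb : t * b * t = b⁻¹ := by
        have e : (t * a * t)⁻¹ = t * a⁻¹ * t := by rw [mul_inv_rev, mul_inv_rev, D.ti, mul_assoc]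
        rw [hb]
        calc t * (a * (t * a * t)⁻¹) * t = t * a * t * a⁻¹ * (t * t) := by rw [e]; group
          _ = t * a * t * a⁻¹ := by rw [D.tt, mul_one]
          _ = (a * (t * a * t)⁻¹)⁻¹ := by group
      have h1 : t * s * b * (t * s) = b := by
        calc t * s * b * (t * s) = t * s * b * (s * t) := by rw [D.ts]
          _ = t * (s * b * s) * t := by group
          _ = t * b⁻¹ * t := by rw [hinv b hbP]
          _ = (t⁻¹ * b * t⁻¹)⁻¹ := by group
          _ = b := by rw [D.ti, htb, inv_inv]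
      nth_rewrite 1 [← h1]
      calc t * s * b * (t * s) * (t * s) = t * s * b * (t * (s * t) * s) := by group
        _ = t * s * b * ((t * t) * (s * s)) := by rw [← D.ts]; group
        _ = t * s * b := by rw [D.tt, D.ss, one_mul, mul_one]
    let δ : (P : Subgroup G) →* G := MonoidHom.mk' (fun a => (a : G) * (t * a * t)⁻¹) fun a b => by
      have e : (t * (a * b : G) * t) = t * a * t * (t * b * t) := by
        rw [show t * (a : G) * t * (t * b * t) = t * a * (t * t) * b * t by group, D.tt]; group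
      rw [Subgroup.coe_mul, e, mul_inv_rev]
      rw [mul_assoc (a : G) b, ← mul_assoc (b : G), hcomm _ (mul_mem b.2 (inv_mem (D.t_mem b.2))) _
        (inv_mem (D.t_mem a.2))]
      group
    have hk : Nat.card δ.ker ≤ 3 := by
      refine le_trans (Nat.card_le_card_of_injective (β := zpowers c)
        (fun a => ⟨((a : (P : Subgroup G)) : G), D.cent_t _ (a : (P : Subgroup G)).2 ?_⟩) ?_)
        (by rw [Nat.card_zpowers, D.hc])
      · have h : ((a : (P : Subgroup G)) : G) * (t * (a : (P : Subgroup G)) * t)⁻¹ = 1 := MonoidHom.mem_ker.1 a.2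
        rw [mul_inv_eq_one] at h
        nth_rewrite 1 [h]
        rw [mul_assoc, D.tt, mul_one]
      · intro a b e
        exact Subtype.ext (Subtype.ext (congrArg Subtype.val e :))
    have himg : Nat.card δ.range ≤ 3 := D.small _ D.conj_ts _ (fun x => by
        obtain ⟨_, a, rfl⟩ := x
        obtain ⟨j, hj⟩ := P.2 a
        exact ⟨j, Subtype.ext (by rw [SubgroupClass.coe_pow, ← map_pow, hj, map_one]; rfl)⟩)
      (by rintro _ ⟨a, rfl⟩; exact hTS a a.2)
    have h := δ.ker.card_mul_index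
    rw [index_ker, D.card] at h
    have : Nat.card δ.ker * Nat.card δ.range ≤ 3 * 3 := Nat.mul_le_mul hk himg
    omega
  obtain ⟨⟨z, hz⟩, hz1⟩ := (Subgroup.ne_bot_iff_exists_ne_one).1 hne
  have hz' : z ≠ 1 := fun e => hz1 (Subtype.ext e)
  have hzs : z * s = s * z := mem_centralizer_singleton_iff.1 hz.2
  have hQc : Nat.card Q = 3 := by
    obtain ⟨n, hn⟩ := IsPGroup.iff_card.1 (P.2.to_le (inf_le_left : Q ≤ _))
    have h1 : 1 < Nat.card Q := one_lt_card_iff_ne_bot _ |>.2 hne
    rw [hn] at hQ3 h1 ⊢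
    rcases n with - | - | n
    · simp at h1
    · rfl
    · exfalso
      have := Nat.pow_le_pow_right (show 1 ≤ 3 by norm_num) (show 2 ≤ n + 1 + 1 by omega)
      omega
  have hzo : orderOf z = 3 := by
    have h := orderOf_dvd_natCard (⟨z, hz⟩ : Q)
    rw [orderOf_mk, hQc] at h
    exact ((Nat.dvd_prime Nat.prime_three).1 h).resolve_left fun e => hz' (orderOf_eq_one_iff.1 e)
  have hzc : z ∉ zpowers c := fun h => by
    have h1 := D.s_z h
    rw [← hzs, mul_inv_cancel_right] at h1
    have h2 : orderOf z ∣ 2 := orderOf_dvd_of_pow_eq_one (by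
      rw [pow_two]; nth_rewrite 2 [h1]; rw [mul_inv_cancel])
    rw [hzo] at h2
    norm_num at h2
  refine ⟨z, hz.1, hzs, hzo, ?_, hzc, D.conj_c z hzo ⟨s, D.conj_s, hzs⟩⟩
  have hQeq : zpowers z = Q := eq_of_le_of_card_ge (zpowers_le.2 hz) (by rw [hQc, Nat.card_zpowers, hzo])
  have htz : t * z * t ∈ Q := ⟨D.t_mem hz.1, mem_centralizer_singleton_iff.2 (by
    calc t * z * t * s = t * z * (t * s) := by group
      _ = t * (z * s) * t := by rw [D.ts]; group
      _ = t * (s * z) * t := by rw [hzs]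
      _ = (t * s) * z * t := by group
      _ = s * (t * z * t) := by rw [D.ts]; group)⟩
  rw [← hQeq] at htz
  obtain ⟨i, hi⟩ := htz
  simp only at hi
  rw [← zpow_mod_orderOf, hzo] at hi
  rcases (by omega : i % (3 : ℕ) = 0 ∨ i % (3 : ℕ) = 1 ∨ i % (3 : ℕ) = 2) with e | e | e <;> rw [e] at hi
  · exfalso
    refine hz' ?_
    have : z = t * (t * z * t) * t := by
      rw [show t * (t * z * t) * t = (t * t) * z * (t * t) by group, D.tt, one_mul, mul_one]
    rw [this, ← hi, zpow_zero, mul_one, D.tt]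
  · exfalso
    refine hzc (D.cent_t z hz.1 ?_)
    rw [zpow_one] at hi
    nth_rewrite 1 [hi]
    rw [mul_assoc, D.tt, mul_one]
  · rw [← hi, show (2 : ℤ) = -1 + (orderOf z : ℤ) by rw [hzo]; rfl, zpow_add, zpow_natCast,
      pow_orderOf_eq_one, mul_one, zpow_neg_one]

/-- The same data with `t s` in place of `s`. -/
theorem ThreeData.swap : ThreeData t (t * s) c P := by
  have h : t * (t * s) = s := by rw [← mul_assoc, D.tt, one_mul]
  refine ⟨D.tt, ?_, ?_, D.cent, D.hc, D.mem, D.le, D.cP, D.card, D.t_c, ?_, D.normal, D.small, D.cent_t, D.conj_ts,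
    h.symm ▸ D.conj_s, D.conj_c⟩
  · calc t * s * (t * s) = t * (s * t) * s := by group
      _ = (t * t) * (s * s) := by rw [← D.ts]; group
      _ = 1 := by rw [D.tt, D.ss, one_mul]
  · rw [h, mul_assoc t s t, ← D.ts, ← mul_assoc, D.tt, one_mul]
  · calc t * s * c * (t * s)⁻¹ = t * (s * c * s⁻¹) * t⁻¹ := by group
      _ = t * c⁻¹ * t⁻¹ := by rw [D.s_c]
      _ = (t * c * t⁻¹)⁻¹ := by group
      _ = c⁻¹ := by rw [D.t_c, mul_inv_cancel_right]

/-- In a commutative Sylow subgroup conjugates of `c` are conjugate in the normalizer. -/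
theorem ThreeData.conj_in_normalizer (hcomm : ∀ a ∈ (P : Subgroup G), ∀ b ∈ (P : Subgroup G), a * b = b * a)
    {z : G} (hz : z ∈ (P : Subgroup G)) (hzconj : IsConj c z) :
    ∃ g ∈ normalizer ((P : Subgroup G) : Set G), g * c * g⁻¹ = z := by
  haveI : Fact (Nat.Prime 3) := ⟨Nat.prime_three⟩
  obtain ⟨g, hg⟩ := isConj_iff.1 hzconj
  refine ⟨g, ?_, hg⟩
  -- `P` and its conjugate both centralize `z`
  set R := (P : Subgroup G).map (MulAut.conj g).toMonoidHom with hR
  have hRc : Nat.card R = 27 := by rw [hR, card_map_of_injective (MulAut.conj g).injective, D.card]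
  have hPR : (P : Subgroup G) ≤ normalizer (R : Set G) := by
    intro a ha
    have hconj : (g⁻¹ * a * g) * c = c * (g⁻¹ * a * g) := by
      calc g⁻¹ * a * g * c = g⁻¹ * (a * (g * c * g⁻¹)) * g := by group
        _ = g⁻¹ * (g * c * g⁻¹ * a) * g := by rw [hg, hcomm a ha z hz]
        _ = _ := by group
    have hn := D.normal _ (Or.inl hconj)
    rw [mem_normalizer_iff]
    intro x
    have key : ∀ y : G, y ∈ R ↔ g⁻¹ * y * g ∈ (P : Subgroup G) := fun y => by
      rw [hR, mem_map_equiv, MulAut.conj_symm_apply]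
    rw [key, key, (mem_normalizer_iff.1 hn (g⁻¹ * x * g))]
    congr! 1
    group
  have hsup := IsPGroup.to_sup_of_normal_right' P.2 (P.2.map (MulAut.conj g).toMonoidHom) hPR
  have hPeq := P.3 hsup le_sup_left
  have hRP : R = (P : Subgroup G) :=
    eq_of_le_of_card_ge (le_sup_right.trans hPeq.le) (by rw [hRc, D.card])
  rw [mem_normalizer_iff]
  intro x
  conv_rhs => rw [← hRP]
  rw [hR, mem_map_equiv, MulAut.conj_symm_apply]
  congr! 1
  group

/-- The Sylow 3-subgroup is not commutative. -/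
theorem ThreeData.not_comm [IsSimpleGroup G] (hcard : Nat.card G = 5616) :
    ∃ a ∈ (P : Subgroup G), ∃ b ∈ (P : Subgroup G), a * b ≠ b * a := by
  classical
  haveI : Fact (Nat.Prime 3) := ⟨Nat.prime_three⟩
  have hna : ¬ IsMulCommutative G := SmallSimple.Basic.not_comm_of_not_prime (by rw [hcard]; norm_num)
  by_contra hcomm
  push Not at hcomm
  obtain ⟨z, hz, hzs, hzo, htz, hzc, hzconj⟩ := D.exists_fixed
  obtain ⟨w, hw, hwts, hwo, htw, hwc, hwconj⟩ := D.swap.exists_fixed
  set N := normalizer ((P : Subgroup G) : Set G) with hN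
  set C := centralizer ({c} : Set G) with hC
  have hCN : C ≤ N := fun a ha => D.normal a (Or.inl (mem_centralizer_singleton_iff.1 ha))
  have htN : t ∈ N := D.normal t (Or.inl D.t_c)
  have hsN : s ∈ N := D.normal s (Or.inr D.s_c)
  -- the orbit of `c` under the normalizer
  set O : Set G := {v | ∃ n ∈ N, n * c * n⁻¹ = v} with hO
  have hclosed : ∀ n ∈ N, ∀ v ∈ O, n * v * n⁻¹ ∈ O := by
    rintro n hn _ ⟨m, hm, rfl⟩
    exact ⟨n * m, mul_mem hn hm, by group⟩
  have hcO : c ∈ O := ⟨1, one_mem N, by group⟩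
  have hci : c⁻¹ ∈ O := ⟨s, hsN, D.s_c⟩
  have hinvO : ∀ v ∈ O, v⁻¹ ∈ O := by
    rintro _ ⟨n, hn, rfl⟩
    exact ⟨n * s, mul_mem hn hsN, by rw [show n * s * c * (n * s)⁻¹ = n * (s * c * s⁻¹) * n⁻¹ by group, D.s_c]; group⟩
  have hcardO : O.ncard * 54 = Nat.card N := by
    have hb : Function.Bijective (Quotient.lift (s := QuotientGroup.leftRel (C.subgroupOf N))
        (fun n : N => (⟨(n : G) * c * (n : G)⁻¹, n, n.2, rfl⟩ : O)) fun a b hab => by
          replace hab : (QuotientGroup.leftRel (C.subgroupOf N)) a b := hab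
          rw [QuotientGroup.leftRel_apply, mem_subgroupOf, hC, mem_centralizer_singleton_iff] at hab
          apply Subtype.ext
          simp only [Subgroup.coe_mul, InvMemClass.coe_inv] at hab ⊢
          calc (a : G) * c * (a : G)⁻¹ = (a : G) * (c * ((a : G)⁻¹ * b)) * (b : G)⁻¹ := by group
            _ = (a : G) * ((a : G)⁻¹ * b * c) * (b : G)⁻¹ := by rw [hab]
            _ = _ := by group) := by
      refine ⟨fun a b => Quotient.inductionOn₂ a b fun a b hab => Quotient.sound ?_, fun ⟨v, n, hn, hv⟩ =>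
        ⟨Quotient.mk _ ⟨n, hn⟩, Subtype.ext hv⟩⟩
      have h : (a : G) * c * (a : G)⁻¹ = (b : G) * c * (b : G)⁻¹ := congrArg Subtype.val hab
      change QuotientGroup.leftRel (C.subgroupOf N) a b
      rw [QuotientGroup.leftRel_apply, mem_subgroupOf, hC, mem_centralizer_singleton_iff]
      simp only [Subgroup.coe_mul, InvMemClass.coe_inv]
      calc (a : G)⁻¹ * b * c = (a : G)⁻¹ * ((b : G) * c * (b : G)⁻¹) * b := by group
        _ = c * ((a : G)⁻¹ * b) := by rw [← h]; group
    have h := (C.subgroupOf N).index_mul_card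
    rw [Nat.card_congr (subgroupOfEquivOfLe hCN).toEquiv, hC, D.cent] at h
    rw [← h, ← Nat.card_coe_set_eq, ← Nat.card_eq_of_bijective _ hb]
    rfl
  obtain ⟨gz, hgz, hgz'⟩ := D.conj_in_normalizer hcomm hz hzconj
  obtain ⟨gw, hgw, hgw'⟩ := D.conj_in_normalizer hcomm hw hwconj
  have hzO : z ∈ O := ⟨gz, hgz, hgz'⟩
  have hwO : w ∈ O := ⟨gw, hgw, hgw'⟩
  set six : Finset G := {c, c⁻¹, z, z⁻¹, w, w⁻¹} with hsix
  have hsixO : ↑six ⊆ O := by
    intro v hv
    simp only [hsix, Finset.coe_insert, Finset.coe_singleton, Set.mem_insert_iff, Set.mem_singleton_iff] at hv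
    rcases hv with rfl | rfl | rfl | rfl | rfl | rfl
    exacts [hcO, hci, hzO, hinvO _ hzO, hwO, hinvO _ hwO]
  have hsi : ∀ {v : G}, v * s = s * v → s * v * s = v := fun {v} h => by
    rw [← h, mul_assoc, D.ss, mul_one]
  have hsc : s * c * s = c⁻¹ := by have := D.s_c; rwa [D.si] at this
  have hsz : s * z * s = z := hsi hzs
  have hsw : s * w * s = w⁻¹ := by
    have h : t * s * w * (t * s) = w := by rw [← hwts, mul_assoc, D.swap.ss, mul_one]
    calc s * w * s = (t * t) * s * w * s * (t * t) := by rw [D.tt, one_mul, mul_one]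
      _ = t * (t * s * w * (s * t)) * t := by group
      _ = w⁻¹ := by rw [← D.ts, h, htw]
  have tc : t * c * t = c := by rw [D.t_c, mul_assoc, D.tt, mul_one]
  have hne : ∀ {v : G}, orderOf v = 3 → v ≠ v⁻¹ := fun {v} ho e => by
    have h2 : orderOf v ∣ 2 := orderOf_dvd_of_pow_eq_one (by
      rw [pow_two]; nth_rewrite 2 [e]; rw [mul_inv_cancel])
    rw [ho] at h2
    norm_num at h2
  have hzw : z ≠ w ∧ z ≠ w⁻¹ := by
    constructor
    · intro e; rw [e] at hsz; exact hne hwo (hsz.symm.trans hsw)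
    · intro e
      rw [e] at hsz
      have h2 : s * w⁻¹ * s = (s * w * s)⁻¹ := by rw [mul_inv_rev, mul_inv_rev, D.si, mul_assoc]
      rw [h2, hsw, inv_inv] at hsz
      exact hne hwo hsz
  have hne6 : six.card = 6 := by
    have cz : ∀ {v : G}, v ∉ zpowers c → c ≠ v ∧ c ≠ v⁻¹ ∧ c⁻¹ ≠ v ∧ c⁻¹ ≠ v⁻¹ := fun {v} hv =>
      ⟨fun e => hv (e ▸ mem_zpowers c), fun e => hv (inv_inv v ▸ e ▸ inv_mem (mem_zpowers c)),
        fun e => hv (e ▸ inv_mem (mem_zpowers c)), fun e => hv (inv_injective e ▸ mem_zpowers c)⟩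
    obtain ⟨a1, a2, a3, a4⟩ := cz hzc
    obtain ⟨b1, b2, b3, b4⟩ := cz hwc
    obtain ⟨d1, d2⟩ := hzw
    have d3 : z⁻¹ ≠ w := fun e => d2 (by rw [← e, inv_inv])
    have d4 : z⁻¹ ≠ w⁻¹ := fun e => d1 (inv_injective e)
    rw [hsix]
    simp [hne D.hc, hne hzo, hne hwo, a1, a2, a3, a4, b1, b2, b3, b4, d1, d2, d3, d4]
  -- the normalizer has order 432
  have h6 : 6 ≤ O.ncard := by
    rw [← hne6, ← Set.ncard_coe_finset six]
    exact Set.ncard_le_ncard hsixO (Set.toFinite _)
  have hN432 : Nat.card N = 432 := by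
    have hidx := N.index_mul_card
    rw [hcard] at hidx
    have hn3 := card_sylow_modEq_one 3 G
    rw [P.card_eq_index_normalizer, Nat.ModEq] at hn3
    have hd : Nat.card N ∣ 5616 := hcard ▸ N.card_subgroup_dvd_card
    have hNtop : N ≠ ⊤ := fun e => by
      haveI := normalizer_eq_top_iff.1 e
      rcases Subgroup.Normal.eq_bot_or_eq_top (H := (P : Subgroup G)) inferInstance with h | h
      · have := D.card; rw [h, card_bot] at this; norm_num at this
      · have := D.card; rw [h, card_top, hcard] at this; norm_num at this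
    have h2 := SmallSimple.Basic.two_mul_card_dvd_factorial hna N hNtop
    rw [hcard] at h2
    have htwo : 2 ∣ Nat.card N := by
      have := orderOf_dvd_natCard (⟨t, htN⟩ : N)
      rwa [orderOf_mk, orderOf_eq_prime (p := 2) (by rw [pow_two, D.tt]) (fun e => by
        rw [e, one_mul, mul_one] at htz; exact hne hzo htz)] at this
    have key : ∀ m ∈ Nat.divisors 5616, 2 ∣ m → 324 ≤ m → (5616 / m) % 3 = 1 →
        2 * 5616 ∣ (5616 / m).factorial → m = 432 := by decide +kernel
    have hq : 5616 / Nat.card N = N.index := by rw [← hidx, Nat.mul_div_cancel _ Nat.card_pos]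
    exact key _ (Nat.mem_divisors.2 ⟨hd, by norm_num⟩) htwo (by omega) (by rw [hq]; exact hn3) (by rw [hq]; exact h2)
  have hO8 : O.ncard = 8 := by omega
  obtain ⟨v, hvO, hv6⟩ := Set.exists_mem_notMem_of_ncard_lt_ncard (s := ↑six) (t := O)
    (by rw [Set.ncard_coe_finset, hne6, hO8]; norm_num)
  obtain ⟨n, hn, hnv⟩ := hvO
  have hvP : v ∈ (P : Subgroup G) := hnv ▸ (mem_normalizer_iff.1 hn c).1 D.cP
  have hvo : orderOf v = 3 := by
    rw [← hnv, ← D.hc]; exact orderOf_injective (MulAut.conj n).toMonoidHom (MulAut.conj n).injective c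
  have hinv6 : ∀ y ∈ six, y⁻¹ ∈ six := by
    intro y hy
    simp only [hsix, Finset.mem_insert, Finset.mem_singleton] at hy ⊢
    rcases hy with rfl | rfl | rfl | rfl | rfl | rfl <;> simp
  have hpair : O \ ↑six = {v, v⁻¹} := by
    refine (Set.eq_of_subset_of_ncard_le ?_ ?_ (Set.toFinite _)).symm
    · rintro y (rfl | rfl)
      · exact ⟨⟨n, hn, hnv⟩, hv6⟩
      · exact ⟨hinvO v ⟨n, hn, hnv⟩, fun h => hv6 (inv_inv v ▸ hinv6 _ h)⟩
    · rw [Set.ncard_pair (hne hvo), Set.ncard_sdiff hsixO, hO8, Set.ncard_coe_finset, hne6]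
  have move : ∀ u : G, u ∈ N → u * u = 1 → (∀ y ∈ six, u * y * u ∈ six) → u * v * u = v ∨ u * v * u = v⁻¹ := by
    intro u hu hu2 hu6
    have hui : u⁻¹ = u := inv_eq_of_mul_eq_one_right hu2
    have h1 : u * v * u ∈ O := by simpa [hui] using hclosed u hu v ⟨n, hn, hnv⟩
    have h2 : u * v * u ∉ six := fun h => hv6 (by
      have := hu6 _ h
      rwa [show u * (u * v * u) * u = (u * u) * v * (u * u) by group, hu2, one_mul, mul_one] at this)
    have h3 : u * v * u ∈ O \ ↑six := ⟨h1, h2⟩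
    rwa [hpair] at h3
  have conj2 : ∀ u y : G, u * u = 1 → u * y⁻¹ * u = (u * y * u)⁻¹ := fun u y hu => by
    rw [mul_inv_rev, mul_inv_rev, inv_eq_of_mul_eq_one_right hu, mul_assoc]
  have ht6 : ∀ y ∈ six, t * y * t ∈ six := by
    intro y hy
    simp only [hsix, Finset.mem_insert, Finset.mem_singleton] at hy ⊢
    rcases hy with rfl | rfl | rfl | rfl | rfl | rfl <;> simp [conj2 _ _ D.tt, tc, htz, htw]
  have hs6 : ∀ y ∈ six, s * y * s ∈ six := by
    intro y hy
    simp only [hsix, Finset.mem_insert, Finset.mem_singleton] at hy ⊢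
    rcases hy with rfl | rfl | rfl | rfl | rfl | rfl <;> simp [conj2 _ _ D.ss, hsc, hsz, hsw]
  have hfix : ∀ {u y : G}, u * u = 1 → u * y * u = y → y * u = u * y := fun {u y} hu h => by
    nth_rewrite 1 [← h]
    rw [mul_assoc, hu, mul_one]
  have inQ : ∀ {u z' : G}, IsConj t u → z' ∈ (P : Subgroup G) → z' * u = u * z' → orderOf z' = 3 → v * u = u * v →
      v = z' ∨ v = z'⁻¹ := by
    intro u z' hu hz' hz'u hz'o hvu
    have hle : zpowers z' ≤ (P : Subgroup G) ⊓ centralizer ({u} : Set G) :=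
      zpowers_le.2 ⟨hz', mem_centralizer_singleton_iff.2 hz'u⟩
    have hQ := D.small u hu _ (P.2.to_le inf_le_left) fun a (ha : a ∈ (P : Subgroup G) ⊓ centralizer ({u} : Set G)) =>
      mem_centralizer_singleton_iff.1 ha.2
    have heq := eq_of_le_of_card_ge hle (by rw [Nat.card_zpowers, hz'o]; exact hQ)
    have hvm : v ∈ zpowers z' := heq ▸ ⟨hvP, mem_centralizer_singleton_iff.2 hvu⟩
    obtain ⟨i, rfl⟩ := hvm
    simp only at hvo ⊢
    rw [← zpow_mod_orderOf, hz'o] at hvo ⊢
    rcases (by omega : i % (3 : ℕ) = 0 ∨ i % (3 : ℕ) = 1 ∨ i % (3 : ℕ) = 2) with e | e | e <;> rw [e] at hvo ⊢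
    · rw [zpow_zero, orderOf_one] at hvo; norm_num at hvo
    · exact Or.inl (zpow_one z')
    · right
      rw [show (2 : ℤ) = -1 + (orderOf z' : ℤ) by rw [hz'o]; rfl, zpow_add, zpow_natCast, pow_orderOf_eq_one,
        mul_one, zpow_neg_one]
  rcases move t htN D.tt ht6 with htv | htv
  · refine hv6 ?_
    rcases D.cases_z (D.cent_t v hvP (hfix D.tt htv)) with e | e | e
    · rw [e, orderOf_one] at hvo; norm_num at hvo
    · simp [hsix, e]
    · simp [hsix, e]
  rcases move s hsN D.ss hs6 with hsv | hsv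
  · refine hv6 ?_
    rcases inQ D.conj_s hz hzs hzo (hfix D.ss hsv) with e | e <;> simp [hsix, e]
  · refine hv6 ?_
    have h : t * s * v * (t * s) = v := by
      calc t * s * v * (t * s) = t * s * v * (s * t) := by rw [D.ts]
        _ = t * (s * v * s) * t := by group
        _ = (t * v * t)⁻¹ := by rw [hsv, conj2 _ _ D.tt]
        _ = v := by rw [htv, inv_inv]
    rcases inQ D.conj_ts hw hwts hwo (hfix D.swap.ss h) with e | e <;> simp [hsix, e]

/-- The centre of `P` is `⟨c⟩`, the quotient is elementary and inverted by `t`. -/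
theorem ThreeData.structure_facts [IsSimpleGroup G] (hcard : Nat.card G = 5616) :
    (∀ a ∈ (P : Subgroup G), (∀ b ∈ (P : Subgroup G), a * b = b * a) → a ∈ zpowers c) ∧
      (∀ a ∈ (P : Subgroup G), ∀ b ∈ (P : Subgroup G), a * b * a⁻¹ * b⁻¹ ∈ zpowers c) ∧
      (∀ a ∈ (P : Subgroup G), a ^ 3 ∈ zpowers c) ∧
      ∀ a ∈ (P : Subgroup G), a * (t * a * t) ∈ zpowers c := by
  classical
  haveI : Fact (Nat.Prime 3) := ⟨Nat.prime_three⟩
  obtain ⟨a0, ha0, b0, hb0, hab⟩ := D.not_comm hcard
  let A : Subgroup G := (P : Subgroup G)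
  set Z := center ↥(P : Subgroup G) with hZ
  have hcZ : (⟨c, D.cP⟩ : (P : Subgroup G)) ∈ Z := mem_center_iff.2 fun b => Subtype.ext (D.le b b.2)
  have hnc : ¬ IsCyclic (↥(P : Subgroup G) ⧸ Z) := fun h => hab (congrArg Subtype.val
    (commutative_of_cyclic_center_quotient (QuotientGroup.mk' Z) (by rw [QuotientGroup.ker_mk']) ⟨a0, ha0⟩ ⟨b0, hb0⟩))
  have hmul := Z.index_mul_card
  rw [D.card] at hmul
  have h3 : 3 ∣ Nat.card Z := by
    have := orderOf_dvd_natCard (⟨⟨c, D.cP⟩, hcZ⟩ : Z)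
    rwa [orderOf_mk, orderOf_mk, D.hc] at this
  have hZd : Nat.card Z ∣ 27 := Dvd.intro_left _ hmul
  have hne : Z.index ≠ 1 ∧ Z.index ≠ 3 := by
    constructor <;> intro h <;> refine hnc ?_
    · haveI : Subsingleton (↥(P : Subgroup G) ⧸ Z) :=
        (Nat.card_eq_one_iff_unique.1 (by rw [← index_eq_card, h])).1
      infer_instance
    · exact isCyclic_of_prime_card (p := 3) (by rw [← index_eq_card, h])
  have hZc : Nat.card Z = 3 := by
    have key : ∀ m ∈ Nat.divisors 27, 3 ∣ m → m = 3 ∨ m = 9 ∨ m = 27 := by decide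
    rcases key _ (Nat.mem_divisors.2 ⟨hZd, by norm_num⟩) h3 with h | h | h
    · exact h
    · rw [h] at hmul; exfalso; omega
    · rw [h] at hmul; exfalso; omega
  have hq : Nat.card (↥(P : Subgroup G) ⧸ Z) = 3 ^ 2 := by
    rw [← index_eq_card]; rw [hZc] at hmul; norm_num; omega
  have hZeq : ∀ a : (P : Subgroup G), a ∈ Z ↔ (a : G) ∈ zpowers c := by
    have hle : zpowers (⟨c, D.cP⟩ : (P : Subgroup G)) = Z := eq_of_le_of_card_ge (zpowers_le.2 hcZ)
      (by rw [hZc, Nat.card_zpowers, orderOf_mk, D.hc])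
    intro a
    rw [← hle, mem_zpowers_iff, mem_zpowers_iff]
    exact ⟨fun ⟨i, hi⟩ => ⟨i, by rw [← hi]; simp⟩, fun ⟨i, hi⟩ => ⟨i, Subtype.ext (by simp [hi])⟩⟩
  haveI hQc := IsPGroup.isMulCommutative_of_card_eq_prime_sq hq
  have hcom : ∀ a ∈ (P : Subgroup G), ∀ b ∈ (P : Subgroup G), a * b * a⁻¹ * b⁻¹ ∈ zpowers c := by
    intro a ha b hb
    have h : (⟨a, ha⟩ * ⟨b, hb⟩ * ⟨a, ha⟩⁻¹ * ⟨b, hb⟩⁻¹ : (P : Subgroup G)) ∈ Z := by
      rw [← QuotientGroup.eq_one_iff, QuotientGroup.mk_mul, QuotientGroup.mk_mul, QuotientGroup.mk_mul,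
        hQc.is_comm.comm (QuotientGroup.mk (⟨a, ha⟩ : (P : Subgroup G))) (QuotientGroup.mk (⟨b, hb⟩ : (P : Subgroup G)))]
      simp
    exact (hZeq _).1 h
  refine ⟨fun a ha h => (hZeq ⟨a, ha⟩).1 (mem_center_iff.2 fun b => Subtype.ext (h b b.2).symm), hcom, ?_, ?_⟩
  · intro a ha
    have h : (⟨a, ha⟩ : (P : Subgroup G)) ^ 3 ∈ Z := by
      rw [← QuotientGroup.eq_one_iff, QuotientGroup.mk_pow]
      set q := QuotientGroup.mk (s := Z) (⟨a, ha⟩ : (P : Subgroup G))
      obtain ⟨i, hi, hi'⟩ := (Nat.dvd_prime_pow Nat.prime_three).1 (hq ▸ orderOf_dvd_natCard q)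
      rcases Nat.lt_or_ge i 2 with hlt | hge
      · exact orderOf_dvd_iff_pow_eq_one.1 (hi' ▸ Nat.pow_dvd_pow 3 (show i ≤ 1 by omega))
      · exact absurd (isCyclic_of_orderOf_eq_card q (by rw [hi', hq, show i = 2 by omega])) hnc
    exact (hZeq _).1 h
  · intro a ha
    set a' := t * a * t with ha'
    have ha'P : a' ∈ (P : Subgroup G) := D.t_mem ha
    set w := a * a' with hw
    have htw : t * w * t = a' * a := by
      rw [hw, ha']
      calc t * (a * (t * a * t)) * t = t * a * t * a * (t * t) := by group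
        _ = _ := by rw [D.tt, mul_one]
    set f := a' * a * a'⁻¹ * a⁻¹ with hf
    have hfz : f ∈ zpowers c := hcom a' ha'P a ha
    have hfix : t * f * t = f := by rw [D.t_z hfz, mul_assoc, D.tt, mul_one]
    have hflip : t * f * t = f⁻¹ := by
      have hta' : t * a' * t = a := by
        rw [ha', show t * (t * a * t) * t = (t * t) * a * (t * t) by group, D.tt, one_mul, mul_one]
      have e : t * f * t = (t * a' * t) * (t * a * t) * (t * a' * t)⁻¹ * (t * a * t)⁻¹ := by
        simp only [hf, mul_inv_rev, D.ti]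
        calc t * (a' * a * a'⁻¹ * a⁻¹) * t = t * a' * 1 * a * 1 * a'⁻¹ * 1 * a⁻¹ * t := by group
          _ = t * a' * (t * t) * a * (t * t) * a'⁻¹ * (t * t) * a⁻¹ * t := by rw [D.tt]
          _ = _ := by group
      rw [e, hta', ← ha', hf]
      group
    have hf1 : f = 1 := by
      rcases D.cases_z hfz with e | e | e
      · exact e
      all_goals
        exfalso
        have h := hfix.symm.trans hflip
        rw [e] at h
        have h2 : orderOf c ∣ 2 := orderOf_dvd_of_pow_eq_one (by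
          rw [pow_two]
          first
            | (nth_rewrite 2 [h]; rw [mul_inv_cancel])
            | (rw [inv_inv] at h; nth_rewrite 2 [← h]; rw [mul_inv_cancel]))
        rw [D.hc] at h2
        norm_num at h2
    refine D.cent_t w (mul_mem ha ha'P) ?_
    have e : t * w * t = w := by
      rw [htw, hw]
      rw [hf, mul_inv_eq_one, mul_inv_eq_iff_eq_mul] at hf1
      exact hf1
    nth_rewrite 1 [← e]
    rw [mul_assoc, D.tt, mul_one]

/-- Every element of order a power of three in `P` has order dividing three and is real. -/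
theorem ThreeData.exp_real [IsSimpleGroup G] (hcard : Nat.card G = 5616) {x : G} (hx : x ∈ (P : Subgroup G)) :
    x ^ 3 = 1 ∧ IsConj x x⁻¹ := by
  obtain ⟨hcen, hcom, hcube, hinv⟩ := D.structure_facts hcard
  have creal : ∀ {y : G}, y ∈ zpowers c → y ^ 3 = 1 ∧ IsConj y y⁻¹ := fun {y} hy => by
    refine ⟨?_, isConj_iff.2 ⟨s, D.s_z hy⟩⟩
    have h3 : c ^ 3 = 1 := by rw [← D.hc, pow_orderOf_eq_one]
    rcases D.cases_z hy with rfl | rfl | rfl <;> simp [h3]
  by_cases hxz : x ∈ zpowers c
  · exact creal hxz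
  set x' := t * x * t with hx'
  set v := x⁻¹ * x' with hv
  have hvP : v ∈ (P : Subgroup G) := mul_mem (inv_mem hx) (D.t_mem hx)
  have hx'' : t * x' * t = x := by
    rw [hx', show t * (t * x * t) * t = (t * t) * x * (t * t) by group, D.tt, one_mul, mul_one]
  have htv : t * v * t = v⁻¹ := by
    have hxi : t * x⁻¹ * t = x'⁻¹ := by rw [hx', mul_inv_rev, mul_inv_rev, D.ti, mul_assoc]
    calc t * v * t = t * x⁻¹ * 1 * x' * t := by rw [hv]; group
      _ = (t * x⁻¹ * t) * (t * x' * t) := by rw [← D.tt]; group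
      _ = v⁻¹ := by rw [hxi, hx'', hv]; group
  -- `v` differs from `x` by an element of the centre
  have hcomm : ∀ {z : G}, z ∈ zpowers c → ∀ a ∈ (P : Subgroup G), a * z = z * a := fun {z} hz a ha => by
    obtain ⟨i, rfl⟩ := hz
    exact ((show Commute a c from D.le a ha).zpow_right i).eq
  have hvx : v * x⁻¹ ∈ zpowers c := by
    have h3 := inv_mem (hcube x hx)
    have hw := hinv x hx
    have e : v * x⁻¹ = x⁻¹ * x⁻¹ * (x * x') * x⁻¹ := by rw [hv]; group
    rw [e, mul_assoc, ← hcomm hw x⁻¹ (inv_mem hx)]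
    rw [show x⁻¹ * x⁻¹ * (x⁻¹ * (x * x')) = (x ^ 3)⁻¹ * (x * x') by group]
    exact mul_mem h3 hw
  have hv3 : v ^ 3 = 1 := by
    have h := hcube v hvP
    have e1 : t * v ^ 3 * t = v ^ 3 := by rw [D.t_z h, mul_assoc, D.tt, mul_one]
    have e2 : t * v ^ 3 * t = (v ^ 3)⁻¹ := by
      have := conj_pow (a := t) (b := v) (i := 3)
      rw [D.ti, htv, inv_pow] at this
      exact this.symm
    have h6 : orderOf (v ^ 3) ∣ 2 := orderOf_dvd_of_pow_eq_one (by
      rw [pow_two]; nth_rewrite 2 [e1.symm.trans e2]; rw [mul_inv_cancel])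
    rcases D.cases_z h with e | e | e
    · exact e
    all_goals
      rw [e] at h6
      simp [D.hc] at h6
  obtain ⟨k, hk, hxk⟩ : ∃ k ∈ zpowers c, x = k * v := ⟨x * v⁻¹, by
    have := inv_mem hvx
    rw [mul_inv_rev, inv_inv] at this
    exact this, by group⟩
  have hkv : Commute k v := (hcomm hk v hvP).symm
  have hx3 : x ^ 3 = 1 := by rw [hxk, hkv.mul_pow, hv3, (creal hk).1, one_mul]
  refine ⟨hx3, ?_⟩
  -- some element of `P` moves `v` to `x`
  have hvx' : IsConj v x := by
    have hvz : v ∉ zpowers c := fun h => hxz (hxk ▸ mul_mem hk h)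
    obtain ⟨p, hp, hpv⟩ : ∃ p ∈ (P : Subgroup G), v * p ≠ p * v := by
      by_contra h
      push Not at h
      exact hvz (hcen v hvP h)
    set d := p * v * p⁻¹ * v⁻¹ with hd
    have hdz : d ∈ zpowers c := hcom p hp v hvP
    have hd1 : d ≠ 1 := fun e => hpv (by rw [hd, mul_inv_eq_one, mul_inv_eq_iff_eq_mul] at e; exact e.symm)
    have h1 : IsConj v (d * v) := isConj_iff.2 ⟨p, by rw [hd]; group⟩
    have h2 : IsConj v (d * (d * v)) := by
      refine h1.trans (isConj_iff.2 ⟨p, ?_⟩)
      rw [show p * (d * v) * p⁻¹ = (p * d * p⁻¹) * (p * v * p⁻¹) by group, hcomm hdz p hp, mul_inv_cancel_right]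
      rw [hd]; group
    rw [hxk]
    rcases D.cases_z hk with rfl | hkc
    · rw [one_mul]
    · have hdc : d = c ∨ d = c⁻¹ := (D.cases_z hdz).resolve_left hd1
      have hc2 : c * c = c⁻¹ := eq_inv_of_mul_eq_one_left (by
        have h3 := pow_orderOf_eq_one c
        rw [D.hc] at h3
        rw [← pow_two, ← pow_succ]
        exact h3)
      have hc2' : c⁻¹ * c⁻¹ = c := by rw [← mul_inv_rev, hc2, inv_inv]
      rcases hkc with rfl | rfl <;> rcases hdc with e | e <;> rw [e] at h1 h2 <;> rw [← mul_assoc] at h2 <;>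
        first
          | exact h1
          | (rw [hc2'] at h2; exact h2)
          | (rw [hc2] at h2; exact h2)
  have hvr : IsConj v v⁻¹ := isConj_iff.2 ⟨t, by rw [D.ti]; exact htv⟩
  have hinvc : IsConj v⁻¹ x⁻¹ := by
    obtain ⟨g, hg⟩ := isConj_iff.1 hvx'
    exact isConj_iff.2 ⟨g, by rw [← hg]; group⟩
  exact hvx'.symm.trans (hvr.trans hinvc)

/-- A subgroup of index thirteen. -/
theorem ThreeData.exists_index [IsSimpleGroup G] (hcard : Nat.card G = 5616) :
    ∃ H : Subgroup G, H.index = 13 := by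
  classical
  haveI : Fact (Nat.Prime 3) := ⟨Nat.prime_three⟩
  have hna : ¬ IsMulCommutative G := SmallSimple.Basic.not_comm_of_not_prime (by rw [hcard]; norm_num)
  obtain ⟨hcen, hcom, hcube, hinv⟩ := D.structure_facts hcard
  obtain ⟨z, hz, hzs, hzo, htz, hzc, hzconj⟩ := D.exists_fixed
  obtain ⟨g, hg⟩ := isConj_iff.1 hzconj
  set E := closure ({c, z} : Set G) with hE
  have hcE : c ∈ E := subset_closure (by simp)
  have hzE : z ∈ E := subset_closure (by simp)
  have hEP : E ≤ P := (closure_le _).2 (by rintro _ (rfl | rfl); exacts [D.cP, hz])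
  -- an element of the normalizer moves the generators into `E`
  have normE : ∀ u : G, u * c * u⁻¹ ∈ E → u * z * u⁻¹ ∈ E → u ∈ normalizer (E : Set G) := by
    intro u h1 h2
    have hle : E.map (MulAut.conj u).toMonoidHom ≤ E := by
      rw [hE, MonoidHom.map_closure, closure_le]
      rintro _ ⟨y, (rfl | rfl), rfl⟩
      exacts [h1, h2]
    have heq := eq_of_le_of_card_ge hle (by rw [card_map_of_injective (MulAut.conj u).injective])
    rw [mem_normalizer_iff]
    intro y
    conv_rhs => rw [← heq]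
    rw [mem_map_equiv, MulAut.conj_symm_apply]
    congr! 1
    group
  set K := normalizer (E : Set G) with hK
  have hPK : (P : Subgroup G) ≤ K := fun p hp => normE p (by rw [D.le p hp, mul_inv_cancel_right]; exact hcE) (by
    have h := hcom p hp z hz
    have hzc' : zpowers c ≤ E := zpowers_le.2 hcE
    have := mul_mem (hzc' h) hzE
    rwa [inv_mul_cancel_right] at this)
  have htK : t ∈ K := normE t (by rw [D.t_c, mul_inv_cancel_right]; exact hcE) (by
    rw [D.ti, htz]; exact inv_mem hzE)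
  have hsK : s ∈ K := normE s (by rw [D.s_c]; exact inv_mem hcE) (by
    rw [D.si, ← hzs, mul_assoc, D.ss, mul_one]; exact hzE)
  -- the conjugate Sylow subgroup normalizes `E` as well
  set R := g • P with hR
  have hRmem : ∀ q : G, q ∈ (R : Subgroup G) ↔ g⁻¹ * q * g ∈ (P : Subgroup G) := fun q => by
    rw [hR, Sylow.coe_subgroup_smul]
    change q ∈ (P : Subgroup G).map (MulAut.conj g).toMonoidHom ↔ _
    rw [mem_map_equiv, MulAut.conj_symm_apply]
  have hRz : ∀ q ∈ (R : Subgroup G), q * z = z * q := fun q hq => by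
    have h := D.le _ ((hRmem q).1 hq)
    calc q * z = g * (g⁻¹ * q * g * c) * g⁻¹ := by rw [← hg]; group
      _ = g * (c * (g⁻¹ * q * g)) * g⁻¹ := by rw [h]
      _ = z * q := by rw [← hg]; group
  have hcR : c ∈ (R : Subgroup G) := by
    rw [hRmem]
    refine D.mem _ ?_ ?_
    · have hcz : c * z = z * c := (D.le z hz).symm
      calc g⁻¹ * c * g * c = g⁻¹ * (c * (g * c * g⁻¹)) * g := by group
        _ = g⁻¹ * (g * c * g⁻¹ * c) * g := by rw [hg, hcz]
        _ = _ := by group
    · simpa [MulAut.conj_apply, D.hc] using orderOf_injective (MulAut.conj g⁻¹).toMonoidHom (MulAut.conj g⁻¹).injective c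
  have hRK : (R : Subgroup G) ≤ K := fun q hq => normE q (by
    have h := hcom _ ((hRmem q).1 hq) _ ((hRmem c).1 hcR)
    obtain ⟨i, hi⟩ := h
    have e : q * c * q⁻¹ = z ^ i * c := by
      rw [← hg, conj_zpow]
      simp only at hi
      rw [hi]; group
    rw [e]
    exact mul_mem (zpow_mem hzE i) hcE) (by rw [hRz q hq, mul_inv_cancel_right]; exact hzE)
  have hRP : R ≠ P := fun e => by
    refine hzc (hcen z hz fun b hb => ?_)
    exact (hRz b (e.symm ▸ hb)).symm
  -- the order of the normalizer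
  have hCK : centralizer ({c} : Set G) ≤ K := by
    set A := (P : Subgroup G) ⊔ zpowers t with hA
    have hle : A ≤ centralizer ({c} : Set G) := sup_le (fun a ha => mem_centralizer_singleton_iff.2 (D.le a ha))
      (zpowers_le.2 (mem_centralizer_singleton_iff.2 D.t_c))
    have h27 : 27 ∣ Nat.card A := D.card ▸ card_dvd_of_le le_sup_left
    have h2 : 2 ∣ Nat.card A := by
      have h := card_dvd_of_le (le_sup_right : zpowers t ≤ A)
      rwa [Nat.card_zpowers, orderOf_eq_prime (p := 2) (by rw [pow_two, D.tt]) (fun e => by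
        rw [e, one_mul, mul_one] at htz
        have h2 : orderOf z ∣ 2 := orderOf_dvd_of_pow_eq_one (by
          rw [pow_two]; nth_rewrite 2 [htz]; rw [mul_inv_cancel])
        rw [hzo] at h2; norm_num at h2)] at h
    have h54 : 54 ∣ Nat.card A := Nat.Coprime.mul_dvd_of_dvd_of_dvd (show Nat.Coprime 27 2 by norm_num) h27 h2
    rw [← eq_of_le_of_card_ge hle (by rw [D.cent]; exact Nat.le_of_dvd Nat.card_pos h54)]
    exact sup_le hPK (zpowers_le.2 htK)
  set NP := normalizer ((P : Subgroup G) : Set G) ⊓ K with hNP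
  have h108 : 108 ≤ Nat.card NP := by
    have hle : centralizer ({c} : Set G) ≤ NP := le_inf (fun a ha => D.normal a (Or.inl (mem_centralizer_singleton_iff.1 ha))) hCK
    have hd := card_dvd_of_le hle
    rw [D.cent] at hd
    have hne : Nat.card NP ≠ 54 := fun e => by
      have heq := eq_of_le_of_card_ge hle (by rw [e, D.cent])
      have hsc : s ∈ centralizer ({c} : Set G) := heq ▸ ⟨D.normal s (Or.inr D.s_c), hsK⟩
      have h1 := mem_centralizer_singleton_iff.1 hsc
      have h2 := D.s_c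
      rw [h1, mul_inv_cancel_right] at h2
      have h3 : orderOf c ∣ 2 := orderOf_dvd_of_pow_eq_one (by rw [pow_two]; nth_rewrite 2 [h2]; rw [mul_inv_cancel])
      rw [D.hc] at h3; norm_num at h3
    obtain ⟨q, hq⟩ := hd
    rcases q with - | - | q
    · simp at hq; exact absurd hq Nat.card_pos.ne'
    · exact absurd hq hne
    · omega
  -- Sylow subgroups of `K`
  have h4 : 4 ≤ Nat.card (Sylow 3 K) := by
    have h := card_sylow_modEq_one 3 K
    rw [Nat.ModEq] at h
    have hne : Nat.card (Sylow 3 K) ≠ 1 := fun e => by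
      obtain ⟨hsub, -⟩ := Nat.card_eq_one_iff_unique.1 e
      have := congrArg (fun S : Sylow 3 K => (S : Subgroup K).map K.subtype)
        (hsub.elim (P.subtype hPK) (R.subtype hRK))
      simp only [Sylow.coe_subtype, subgroupOf_map_subtype, inf_eq_left.2 hPK, inf_eq_left.2 hRK] at this
      exact hRP (Sylow.ext this).symm
    omega
  have hK432 : 432 ≤ Nat.card K := by
    have h := (normalizer (((P.subtype hPK : Sylow 3 K) : Subgroup K) : Set K)).index_mul_card
    have hi : (normalizer (((P.subtype hPK : Sylow 3 K) : Subgroup K) : Set K)).index = Nat.card (Sylow 3 K) :=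
      ((P.subtype hPK).card_eq_index_normalizer).symm
    rw [hi] at h
    have hle : Nat.card NP ≤ Nat.card (normalizer (((P.subtype hPK : Sylow 3 K) : Subgroup K) : Set K)) := by
      refine Nat.card_le_card_of_injective (fun x => ⟨⟨(x : G), x.2.2⟩, ?_⟩) fun a b e =>
        Subtype.ext (congrArg (fun y : normalizer (((P.subtype hPK : Sylow 3 K) : Subgroup K) : Set K) => ((y : K) : G)) e :)
      rw [mem_normalizer_iff]
      intro y
      simp only [Sylow.coe_subtype, mem_subgroupOf, Subgroup.coe_mul, InvMemClass.coe_inv]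
      exact mem_normalizer_iff.1 x.2.1 (y : G)
    calc 432 = 4 * 108 := rfl
      _ ≤ Nat.card (Sylow 3 K) * Nat.card (normalizer (((P.subtype hPK : Sylow 3 K) : Subgroup K) : Set K)) :=
        Nat.mul_le_mul h4 (h108.trans hle)
      _ = Nat.card K := h
  refine ⟨K, ?_⟩
  have hKtop : K ≠ ⊤ := fun e => by
    haveI := normalizer_eq_top_iff.1 e
    rcases Subgroup.Normal.eq_bot_or_eq_top (H := E) inferInstance with h | h
    · exact hzc (by rw [(mem_bot.1 (h ▸ hzE) : z = 1)]; exact one_mem _)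
    · have := Nat.le_of_dvd Nat.card_pos (card_dvd_of_le hEP)
      rw [h, card_top, hcard, D.card] at this; omega
  have h2 := SmallSimple.Basic.two_mul_card_dvd_factorial hna K hKtop
  have hidx := K.index_mul_card
  rw [hcard] at hidx h2
  have hle : K.index ≤ 13 := by
    by_contra hlt
    have := Nat.mul_le_mul (show 14 ≤ K.index by omega) hK432
    omega
  have key : ∀ m ∈ List.range 14, 2 * 5616 ∣ m.factorial → m = 13 := by decide +kernel
  exact key _ (List.mem_range.2 (by omega)) h2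

end Cfsg.Agent.GLTwoThree
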