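import Cfsg.Agent.Lib.GLTwoThree.Model

/-!
# An involution whose centralizer is `GL(2, 3)`

The local data used by the character computation.
-/

set_option autoImplicit false
set_option linter.style.haveILetI false
set_option linter.unusedSectionVars false

namespace Cfsg.Agent.GLTwoThree

open Subgroup

/-- A copy of `GL(2, 3)` as the centralizer of an involution. -/
structure Embedded {G : Type*} [Group G] (t : G) (φ : GL23 →* G) : Prop where
  inj : Function.Injective φ
  range : ∀ g : G, g * t = t * g ↔ ∃ k, φ k = g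
  hT : φ T = t
  card : Nat.card (centralizer ({t} : Set G)) = 48

variable {G : Type*} [Group G] [Finite G] {t : G} {φ : GL23 →* G}

theorem card_GL23 : Nat.card GL23 = 48 := by
  rw [Matrix.card_GL_field, Fin.prod_univ_two, ZMod.card]
  rfl

theorem exists_embedded (ht : orderOf t = 2) (e : centralizer ({t} : Set G) ≃* GL23) :
    ∃ φ : GL23 →* G, Embedded t φ := by
  set C := centralizer ({t} : Set G)
  have htC : t ∈ C := mem_centralizer_singleton_iff.2 rfl
  have hc : Nat.card C = 48 := by rw [Nat.card_congr e.toEquiv, card_GL23]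
  refine ⟨C.subtype.comp e.symm.toMonoidHom, fun a b h => e.symm.injective (Subtype.ext h), fun g => ⟨?_, ?_⟩,
    ?_, hc⟩
  · intro h
    exact ⟨e ⟨g, mem_centralizer_singleton_iff.2 h⟩, by simp⟩
  · rintro ⟨k, rfl⟩
    exact mem_centralizer_singleton_iff.1 (e.symm k).2
  · have : e ⟨t, htC⟩ = T := by
      refine central_invol (fun h => ?_) ?_ ?_
      · rw [← e.apply_symm_apply h, ← map_mul, ← map_mul]
        exact congrArg e (Subtype.ext (mem_centralizer_singleton_iff.1 (e.symm h).2).symm)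
      · have h2 : (⟨t, htC⟩ : C) * ⟨t, htC⟩ = 1 :=
          Subtype.ext (by change t * t = 1; rw [← pow_two, ← ht, pow_orderOf_eq_one])
        rw [← map_mul, h2, map_one]
      · intro h
        rw [MulEquiv.map_eq_one_iff] at h
        have := congrArg (orderOf ∘ Subtype.val) h
        simp [ht] at this
    simp [← this]

variable (E : Embedded t φ)
include E

theorem Embedded.order_t : orderOf t = 2 := by
  rw [← E.hT, orderOf_injective φ E.inj]
  exact orderOf_eq_prime (p := 2) (by rw [pow_two, X_pow.2.2.1]) X_pow.2.1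

theorem Embedded.order_x : orderOf (φ X) = 8 := by
  rw [orderOf_injective φ E.inj]
  exact orderOf_eq_prime_pow (p := 2) (n := 2) (by rw [show 2 ^ 2 = 4 from rfl, X_pow.1]; exact X_pow.2.1)
    (by rw [show 2 ^ (2 + 1) = 4 * 2 from rfl, pow_mul, X_pow.1, pow_two, X_pow.2.2.1])

theorem Embedded.order_y : orderOf (φ Y) = 6 := by
  rw [orderOf_injective φ E.inj, orderOf_eq_iff (by norm_num)]
  refine ⟨by rw [show 6 = 3 * 2 from rfl, pow_mul, Y_pow.1, pow_two, X_pow.2.2.1], fun m hm hm0 h => ?_⟩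
  have h6 : Y ^ 6 = 1 := by rw [show 6 = 3 * 2 from rfl, pow_mul, Y_pow.1, pow_two, X_pow.2.2.1]
  have h3 : Y ^ 3 ≠ 1 := by rw [Y_pow.1]; exact X_pow.2.1
  have hdvd : orderOf Y ∣ 6 := orderOf_dvd_of_pow_eq_one h6
  have hm' : orderOf Y ∣ m := orderOf_dvd_of_pow_eq_one h
  have hle := Nat.le_of_dvd hm0 hm'
  have h2 : ¬ orderOf Y ∣ 2 := fun hd => Y_pow.2 (orderOf_dvd_iff_pow_eq_one.1 hd)
  have h3' : ¬ orderOf Y ∣ 3 := fun hd => h3 (orderOf_dvd_iff_pow_eq_one.1 hd)
  have hlt : orderOf Y < 6 := by omega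
  have hpos : 0 < orderOf Y := orderOf_pos Y
  interval_cases orderOf Y <;> simp_all

theorem Embedded.cent_eq {s : GL23} {n : ℕ} {k : GL23} (hst : ∃ j : ℕ, φ s ^ j = t)
    (hs : s ∈ zpowers k) (hn : orderOf k = n)
    (hcomm : ∀ g, g * s = s * g → g ∈ zpowers k) :
    Nat.card (centralizer ({φ s} : Set G)) = n := by
  have he : centralizer ({φ s} : Set G) = zpowers (φ k) := by
    ext g
    rw [mem_centralizer_singleton_iff]
    constructor
    · intro hg
      obtain ⟨j, hj⟩ := hst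
      have : g * t = t * g := by rw [← hj]; exact (Commute.pow_right hg j).eq
      obtain ⟨g', rfl⟩ := (E.range g).1 this
      rw [← map_mul, ← map_mul] at hg
      obtain ⟨i, hi⟩ := hcomm g' (E.inj hg)
      exact ⟨i, by simp [← hi]⟩
    · rintro ⟨i, rfl⟩
      obtain ⟨l, hl⟩ := hs
      simp only [← hl, map_zpow]
      exact ((Commute.refl (φ k)).zpow_zpow i l).eq
  rw [he, Nat.card_zpowers, orderOf_injective φ E.inj, hn]

theorem Embedded.cent_x : Nat.card (centralizer ({φ X} : Set G)) = 8 :=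
  E.cent_eq ⟨4, by rw [← map_pow, X_pow.1, E.hT]⟩ (mem_zpowers X)
    ((orderOf_injective φ E.inj X).symm.trans E.order_x)
    fun g hg => by obtain ⟨i, rfl⟩ := comm_X hg; exact npow_mem_zpowers X i

theorem Embedded.cent_x2 : Nat.card (centralizer ({φ X ^ 2} : Set G)) = 8 := by
  rw [← map_pow]
  exact E.cent_eq ⟨2, by rw [← map_pow, ← pow_mul, X_pow.1, E.hT]⟩ (npow_mem_zpowers X 2)
    ((orderOf_injective φ E.inj X).symm.trans E.order_x)
    fun g hg => by obtain ⟨i, rfl⟩ := comm_X_sq hg; exact npow_mem_zpowers X i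

theorem Embedded.cent_y : Nat.card (centralizer ({φ Y} : Set G)) = 6 :=
  E.cent_eq ⟨3, by rw [← map_pow, Y_pow.1, E.hT]⟩ (mem_zpowers Y)
    ((orderOf_injective φ E.inj Y).symm.trans E.order_y)
    fun g hg => by obtain ⟨i, rfl⟩ := comm_Y hg; exact npow_mem_zpowers Y i

theorem Embedded.conj_x3 : IsConj (φ X) (φ X ^ 3) := by
  rw [← map_pow]
  exact φ.map_isConj (isConj_iff.2 ⟨W, by rw [mul_inv_eq_iff_eq_mul]; exact W_facts.2.2.2.1⟩)

theorem Embedded.conj_x2 : IsConj (φ X ^ 2) (φ X ^ 6) := by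
  have := E.conj_x3.pow 2
  rwa [← pow_mul, show 3 * 2 = 6 from rfl] at this

theorem Embedded.conj_y : IsConj (φ Y) (φ Y ^ 5) := by
  rw [← map_pow]
  exact φ.map_isConj (isConj_iff.2 ⟨W, by rw [mul_inv_eq_iff_eq_mul]; exact W_facts.2.2.2.2⟩)

theorem Embedded.not_conj_x : ¬ IsConj (φ X) (φ X ^ 7) := fun h => by
  obtain ⟨g, hg⟩ := isConj_iff.1 h
  have hx4 : φ X ^ 4 = t := by rw [← map_pow, X_pow.1, E.hT]
  have ht2 : t * t = 1 := by rw [← pow_two, ← E.order_t, pow_orderOf_eq_one]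
  have hgt : g * t = t * g := by
    rw [← mul_inv_eq_iff_eq_mul, ← hx4, ← conj_pow, hg, ← pow_mul, show 7 * 4 = 4 * 7 from rfl, pow_mul, hx4,
      show (7 : ℕ) = 2 * 3 + 1 from rfl, pow_succ, pow_mul, pow_two, ht2, one_pow, one_mul]
  obtain ⟨g', rfl⟩ := (E.range g).1 hgt
  rw [mul_inv_eq_iff_eq_mul, ← map_pow, ← map_mul, ← map_mul] at hg
  exact not_conj_X g' (E.inj hg)

theorem Embedded.inverters (hconj : ∀ u : G, u * t = t * u → u * u = 1 → u ≠ 1 → IsConj t u) :
    Nat.card {u : G // IsConj t u ∧ IsConj t (u⁻¹ * φ Y)} = 6 := by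
  classical
  have ht := E.order_t
  have hinv : ∀ {v : G}, IsConj t v → v * v = 1 ∧ v ≠ 1 := by
    intro v hv
    obtain ⟨g, rfl⟩ := isConj_iff.1 hv
    have ht2 : t * t = 1 := by rw [← pow_two, ← ht, pow_orderOf_eq_one]
    refine ⟨by rw [conj_mul, ht2, mul_one, mul_inv_cancel], fun h => ?_⟩
    rw [mul_inv_eq_one, mul_eq_left] at h
    rw [h, orderOf_one] at ht
    norm_num at ht
  have hyt : φ Y ^ 3 = t := by rw [← map_pow, Y_pow.1, E.hT]
  have hset : ∀ u : G, (IsConj t u ∧ IsConj t (u⁻¹ * φ Y)) ↔ u ∈ invY.map φ := by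
    intro u
    rw [List.mem_map]
    constructor
    · rintro ⟨h1, h2⟩
      obtain ⟨hu, hu1⟩ := hinv h1
      rw [inv_eq_of_mul_eq_one_right hu] at h2
      obtain ⟨hv, hv1⟩ := hinv h2
      have hconj' : u * φ Y * u⁻¹ = (φ Y)⁻¹ := by
        rw [inv_eq_of_mul_eq_one_right hu]
        exact eq_inv_of_mul_eq_one_left (by rw [← hv]; group)
      have hut : u * t = t * u := by
        rw [← mul_inv_eq_iff_eq_mul, ← hyt, ← conj_pow, hconj', inv_pow, hyt,
          inv_eq_of_mul_eq_one_right (by rw [← pow_two, ← ht, pow_orderOf_eq_one])]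
      obtain ⟨k, rfl⟩ := (E.range u).1 hut
      refine ⟨k, (invY_iff k).1 ⟨E.inj (by rw [map_mul, hu, map_one]), fun e => hu1 (by rw [e, map_one]),
        E.inj (by rw [map_mul, map_mul, hv, map_one]), T_central k, fun e => hv1 (by rw [← map_mul, e, map_one])⟩,
        rfl⟩
    · rintro ⟨k, hk, rfl⟩
      obtain ⟨h1, h2, h3, h4, h5⟩ := (invY_iff k).2 hk
      have hu : φ k * φ k = 1 := by rw [← map_mul, h1, map_one]
      refine ⟨hconj _ ((E.range _).2 ⟨k, rfl⟩) hu fun e => h2 (E.inj (by rw [e, map_one])), ?_⟩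
      rw [inv_eq_of_mul_eq_one_right hu, ← map_mul]
      exact hconj _ ((E.range _).2 ⟨_, rfl⟩) (by rw [← map_mul, h3, map_one])
        fun e => h5 (E.inj (by rw [e, map_one]))
  rw [Nat.card_congr (Equiv.subtypeEquivRight hset)]
  haveI : Fintype {u : G // u ∈ invY.map φ} := Fintype.ofFinite _
  rw [Nat.card_eq_fintype_card, Fintype.card_of_subtype (invY.map φ).toFinset (fun u => List.mem_toFinset),
    List.toFinset_card_of_nodup (invY_nodup.map E.inj), List.length_map]
  simp [invY]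

end Cfsg.Agent.GLTwoThree
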