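import Mathlib

/-!
# Facts about `GL(2, 3)`

Checked over the eighty-one matrices.
-/

set_option autoImplicit false
set_option maxRecDepth 10000

namespace Cfsg.Agent.GLTwoThree

/-- The group. -/
abbrev GL23 := GL (Fin 2) (ZMod 3)

/-- The matrices. -/
abbrev M23 := Matrix (Fin 2) (Fin 2) (ZMod 3)

/-- An element of order eight. -/
def X : GL23 := ⟨!![1, 1; 1, 0], !![0, 1; 1, 2], by decide +kernel, by decide +kernel⟩

/-- An element of order six. -/
def Y : GL23 := ⟨!![2, 2; 0, 2], !![2, 1; 0, 2], by decide +kernel, by decide +kernel⟩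

/-- The central involution. -/
def T : GL23 := ⟨!![2, 0; 0, 2], !![2, 0; 0, 2], by decide +kernel, by decide +kernel⟩

/-- A reflection normalizing `⟨X⟩` and `⟨Y⟩`. -/
def W : GL23 := ⟨!![1, 2; 0, 2], !![1, 2; 0, 2], by decide +kernel, by decide +kernel⟩

/-- The matrix with the given entries. -/
def mat (a b c d : ZMod 3) : M23 := !![a, b; c, d]

/-- A statement about all matrices of nonzero determinant holds at every element. -/
theorem mat_cases {P : M23 → Prop} (h : ∀ a b c d : ZMod 3, a * d - b * c ≠ 0 → P (mat a b c d))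
    (g : GL23) : P g.val := by
  have hd : g.val 0 0 * g.val 1 1 - g.val 0 1 * g.val 1 0 ≠ 0 := by
    rw [← Matrix.det_fin_two]
    exact ((Matrix.isUnit_iff_isUnit_det _).1 g.isUnit).ne_zero
  have := h _ _ _ _ hd
  rwa [mat, ← Matrix.eta_fin_two g.val] at this

theorem ext_val {g h : GL23} : g = h ↔ g.val = h.val := ⟨fun e => by rw [e], Units.ext⟩

theorem X_pow : X ^ 4 = T ∧ T ≠ 1 ∧ T * T = 1 ∧ X ^ 2 ≠ T ∧ X ^ 2 ≠ 1 := by
  simp only [ne_eq, ext_val, Units.val_pow_eq_pow_val, Units.val_mul, Units.val_one]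
  decide +kernel

theorem Y_pow : Y ^ 3 = T ∧ Y ^ 2 ≠ 1 := by
  simp only [ne_eq, ext_val, Units.val_pow_eq_pow_val, Units.val_one]
  decide +kernel

theorem W_facts : W * W = 1 ∧ W ≠ 1 ∧ W ≠ T ∧ W * X = X ^ 3 * W ∧ W * Y = Y ^ 5 * W := by
  simp only [ne_eq, ext_val, Units.val_pow_eq_pow_val, Units.val_mul, Units.val_one]
  decide +kernel

theorem T_central (g : GL23) : g * T = T * g := by
  rw [ext_val, Units.val_mul, Units.val_mul]
  exact mat_cases (P := fun m => m * T.val = T.val * m) (by decide +kernel) g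

theorem central_invol {g : GL23} (hc : ∀ h : GL23, g * h = h * g) (h2 : g * g = 1) (h1 : g ≠ 1) : g = T := by
  have h3 := congrArg Units.val (hc X)
  have h4 := congrArg Units.val (hc W)
  rw [ne_eq, ext_val] at h1
  rw [ext_val] at h2 ⊢
  simp only [Units.val_mul, Units.val_one] at h2 h3 h4 h1 ⊢
  revert h1 h2 h3 h4
  exact mat_cases (P := fun m => m * m = 1 → ¬ m = 1 → m * X.val = X.val * m → m * W.val = W.val * m → m = T.val)
    (by decide +kernel) g

theorem comm_X {g : GL23} (h : g * X = X * g) : ∃ i : Fin 8, g = X ^ (i : ℕ) := by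
  rw [ext_val, Units.val_mul, Units.val_mul] at h
  simp only [ext_val, Units.val_pow_eq_pow_val]
  revert h
  exact mat_cases (P := fun m => m * X.val = X.val * m → ∃ i : Fin 8, m = X.val ^ (i : ℕ))
    (by decide +kernel) g

theorem comm_X_sq {g : GL23} (h : g * X ^ 2 = X ^ 2 * g) : ∃ i : Fin 8, g = X ^ (i : ℕ) := by
  rw [ext_val, Units.val_mul, Units.val_mul, Units.val_pow_eq_pow_val] at h
  simp only [ext_val, Units.val_pow_eq_pow_val]
  revert h
  exact mat_cases (P := fun m => m * X.val ^ 2 = X.val ^ 2 * m → ∃ i : Fin 8, m = X.val ^ (i : ℕ))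
    (by decide +kernel) g

theorem comm_Y {g : GL23} (h : g * Y = Y * g) : ∃ i : Fin 6, g = Y ^ (i : ℕ) := by
  rw [ext_val, Units.val_mul, Units.val_mul] at h
  simp only [ext_val, Units.val_pow_eq_pow_val]
  revert h
  exact mat_cases (P := fun m => m * Y.val = Y.val * m → ∃ i : Fin 6, m = Y.val ^ (i : ℕ))
    (by decide +kernel) g

theorem not_conj_X (g : GL23) : g * X ≠ X ^ 7 * g := by
  simp only [ne_eq, ext_val, Units.val_pow_eq_pow_val, Units.val_mul]
  exact mat_cases (P := fun m => ¬ m * X.val = X.val ^ 7 * m) (by decide +kernel) g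

theorem involution_cases {g : GL23} (h : g * g = 1) :
    g = 1 ∨ g = T ∨ ∃ k : GL23, k * W = g * k := by
  rw [ext_val, Units.val_mul, Units.val_one] at h
  simp only [ext_val, Units.val_mul, Units.val_one]
  suffices h' : g.val = 1 ∨ g.val = T.val ∨ ∃ a b c d : ZMod 3,
      a * d - b * c ≠ 0 ∧ mat a b c d * W.val = g.val * mat a b c d by
    refine h'.imp_right (Or.imp_right ?_)
    rintro ⟨a, b, c, d, hd, he⟩
    refine ⟨Matrix.GeneralLinearGroup.mkOfDetNeZero (mat a b c d) ?_, he⟩
    rw [mat, Matrix.det_fin_two]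
    simpa using hd
  revert h
  exact mat_cases (P := fun m => m * m = 1 → m = 1 ∨ m = T.val ∨ ∃ a b c d : ZMod 3,
      a * d - b * c ≠ 0 ∧ mat a b c d * W.val = m * mat a b c d) (by decide +kernel) g

/-- The six involutions inverting `Y`. -/
def invY : List GL23 := (List.range 6).map fun i => Y ^ i * W

theorem invY_nodup : invY.Nodup := by
  suffices h : (invY.map Units.val).Nodup from h.of_map _
  simp only [invY, List.map_map, Function.comp_def, Units.val_mul, Units.val_pow_eq_pow_val]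
  decide +kernel

theorem invY_iff (g : GL23) :
    (g * g = 1 ∧ g ≠ 1 ∧ g * Y * (g * Y) = 1 ∧ g * T = T * g ∧ g * Y ≠ 1) ↔ g ∈ invY := by
  have : g ∈ invY ↔ g.val ∈ invY.map Units.val := (List.mem_map_of_injective Units.val_injective).symm
  rw [this]
  simp only [invY, List.map_map, Function.comp_def, Units.val_mul, Units.val_pow_eq_pow_val, ne_eq,
    ext_val, Units.val_one]
  exact mat_cases (P := fun m => (m * m = 1 ∧ ¬ m = 1 ∧ m * Y.val * (m * Y.val) = 1 ∧
    m * T.val = T.val * m ∧ ¬ m * Y.val = 1) ↔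
      m ∈ (List.range 6).map fun i => Y.val ^ i * W.val) (by decide +kernel) g

theorem X_pow_W_inj : ∀ i i' : Fin 8, ∀ j j' : Fin 2,
    X.val ^ (i : ℕ) * W.val ^ (j : ℕ) = X.val ^ (i' : ℕ) * W.val ^ (j' : ℕ) → i = i' ∧ j = j' := by
  decide +kernel

theorem center_cases : ∀ i : Fin 8, W.val * X.val ^ (i : ℕ) = X.val ^ (i : ℕ) * W.val →
    X.val ^ (i : ℕ) = 1 ∨ X.val ^ (i : ℕ) = T.val := by
  decide +kernel

end Cfsg.Agent.GLTwoThree
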