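import Cfsg.Agent.Lib.GLTwoThree.Rows

/-!
# The order of a group with an involution centralizer `GL(2, 3)`

The columns at the five classes powering to the involution leave one family of seven rows; two class
multiplication constants then leave the orders `5616` and `7920`.
-/

set_option autoImplicit false
set_option linter.style.haveILetI false
set_option linter.unusedSectionVars false

namespace Cfsg.Agent.GLTwoThree

open Subgroup Cfsg.Agent.Characters Cfsg.Agent.SelfNine
open scoped ComplexConjugate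

/-- The Gram matrix of the five columns, without the trivial character. -/
def glGram : M5 := ⟨47, 7, 5, 3, 2, -1, -1, -1, 0, -1, -1, 0, -1, 0, 0⟩

/-- The possible rows, up to sign. -/
def glCands : List V5 :=
  [⟨1, -1, 1, -1, -1⟩, ⟨1, -1, 1, -1, 1⟩, ⟨1, -1, 1, 1, -1⟩, ⟨1, -1, 1, 1, 1⟩, ⟨1, 1, -2, 1, 0⟩,
   ⟨1, 1, 1, -1, 0⟩, ⟨1, 1, 1, 1, 0⟩, ⟨2, -2, -1, 0, 0⟩, ⟨2, 0, -1, 0, -1⟩, ⟨2, 0, -1, 0, 1⟩,
   ⟨2, 2, -1, 0, 0⟩, ⟨3, -1, 0, -1, 0⟩, ⟨3, -1, 0, 1, 0⟩, ⟨3, 1, 0, -1, -1⟩, ⟨3, 1, 0, -1, 1⟩,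
   ⟨3, 1, 0, 1, -1⟩, ⟨3, 1, 0, 1, 1⟩, ⟨4, 0, 1, 0, 0⟩, ⟨5, 1, -1, -1, 0⟩, ⟨5, 1, -1, 1, 0⟩]

/-- The family of rows. -/
def glRows : List V5 :=
  [⟨4, 0, 1, 0, 0⟩, ⟨3, -1, 0, 1, 0⟩, ⟨3, -1, 0, -1, 0⟩, ⟨2, 2, -1, 0, 0⟩, ⟨2, 0, -1, 0, 1⟩,
   ⟨2, 0, -1, 0, -1⟩, ⟨1, 1, 1, -1, 0⟩]

def glFin (l : List V5) : Bool := decide (l = glRows)

def glCover (v : V5) : Bool :=
  !((v.x - v.z) % 3 == 0 && (v.y - v.w) % 2 == 0 && (v.x - v.y - 2 * v.u) % 4 == 0 && (glGram.subSq v).Ok) ||
    decide (v = ⟨0, 0, 0, 0, 0⟩ ∨ v ∈ glCands ∨ (⟨-v.x, -v.y, -v.z, -v.w, -v.u⟩ : V5) ∈ glCands)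

theorem glCands_cover : ∀ i : Fin 13, ∀ j k : Fin 5, ∀ a b : Fin 3, glCover
    ⟨(i : ℕ) - 6, (j : ℕ) - 2, (k : ℕ) - 2, (a : ℕ) - 1, (b : ℕ) - 1⟩ = true := by
  decide +kernel

theorem glSearch_eq : search glFin 40 glCands glGram [] = true := by
  decide +kernel

/-- The rows form the one family. -/
theorem gl_rows {rows : List V5} (h : ∀ r ∈ rows, r ∈ glCands) (ht : total rows = glGram) :
    glRows.Perm rows := by
  obtain ⟨l, hl, hfin⟩ := search_sound glFin 40 glCands glGram [] rows h ht glSearch_eq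
  rw [List.append_nil] at hl
  exact (of_decide_eq_true hfin) ▸ hl

/-- The only signed degrees. -/
theorem solve {A B D : ℤ} (hA : A = -(B + D)) (hB : B ≠ 1) (hB8 : B % 8 = 1) (hD8 : D % 8 = 4)
    (h : A * B * (-1 - D) - 9 * B * (-1 - D) - A * (-1 - D) + 9 * A * B = 0) :
    (D = 12 ∧ B = -39) ∨ (D = 44 ∧ B = -55) := by
  subst hA
  have h1 : (B - 1) * (B * (D - 8) + D * (D + 1)) = 0 := by linear_combination h
  rcases mul_eq_zero.1 h1 with e | e
  · exact absurd (by linarith) hB
  have hd : D - 8 ∣ 72 := ⟨-B - D - 9, by linear_combination e⟩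
  have hle := Int.le_of_dvd (by norm_num) hd
  have hge : -72 ≤ D - 8 := by
    have := Int.le_of_dvd (by norm_num) (Int.neg_dvd.2 hd)
    linarith
  have hlo : -64 ≤ D := by linarith
  have hhi : D ≤ 80 := by linarith
  interval_cases D <;> omega

variable {G : Type*} [Group G] [Finite G] {t : G} {φ : GL23 →* G} (E : Embedded t φ)
include E

/-- The two orders. -/
theorem Embedded.order_cases (hconj : ∀ u : G, u * t = t * u → u * u = 1 → u ≠ 1 → IsConj t u)
    (hlin : ∀ lam : G →* ℂˣ, lam (φ X) = 1) : (Nat.card G = 5616 ∧ 18 < Nat.card (centralizer ({φ Y ^ 2} : Set G))) ∨ Nat.card G = 7920 := by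
  classical
  haveI := Fintype.ofFinite G
  haveI := Fintype.ofFinite (Cfsg.IrrCharacter G)
  choose f v hv c0 c4 c2 c3 using E.exists_row
  set x := φ X with hxdef
  set y := φ Y with hydef
  set triv := trivIrr G with htriv
  have hx8 : x ^ 8 = 1 := by rw [← E.order_x, pow_orderOf_eq_one]
  have hox2 : orderOf (x ^ 2) = 4 := by rw [orderOf_pow' x two_ne_zero, E.order_x]; rfl
  have TT := fun χ => (hv χ).t'
  have X2 := fun χ => (hv χ).x2
  have YY := fun χ => (hv χ).y'
  have F : ∀ χ : Cfsg.IrrCharacter G, (χ : G → ℂ) 1 = (((f χ : ℤ)) : ℂ) := fun χ => by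
    rw [(hv χ).one, Int.cast_natCast]
  have nc : ∀ {g h : G}, orderOf g ≠ orderOf h → ¬ IsConj g h := fun {g h} hne hc => by
    obtain ⟨k, rfl⟩ := isConj_iff.1 hc
    exact hne (orderOf_injective (MulAut.conj k).toMonoidHom (MulAut.conj k).injective g).symm
  have ktt := (oct_column _ _ _ _ TT TT).1 (IsConj.refl _)
  have kww := (oct_column _ _ _ _ X2 X2).1 (IsConj.refl _)
  have kyy := (oct_column _ _ _ _ YY YY).1 (IsConj.refl _)
  rw [E.card] at ktt
  rw [E.cent_x2] at kww
  rw [E.cent_y] at kyy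
  have ktw := (oct_column _ _ _ _ TT X2).2 (nc (by rw [E.order_t, hox2]; norm_num))
  have kty := (oct_column _ _ _ _ TT YY).2 (nc (by rw [E.order_t, E.order_y]; norm_num))
  have kwy := (oct_column _ _ _ _ X2 YY).2 (nc (by rw [hox2, E.order_y]; norm_num))
  -- products with the column at `x`
  have mixed : ∀ (p : Cfsg.IrrCharacter G → ℤ) (g : G), (∀ χ : Cfsg.IrrCharacter G, (χ : G → ℂ) g = (p χ : ℂ)) →
      ¬ IsConj g x → (∑ χ, p χ * (v χ).w = 0) ∧ ∑ χ, p χ * (v χ).u = 0 := by
    intro p g hp hn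
    have key := second_orthogonality g x
    rw [if_neg hn] at key
    simp only [hp, (hv _).x', map_add, map_mul, conj_root, map_intCast] at key
    have h0 : ((∑ χ, (p χ * (v χ).w : ℤ) : ℚ) : ℂ) + ((-∑ χ, (p χ * (v χ).u : ℤ) : ℚ) : ℂ) * root = 0 := by
      rw [← key]
      push_cast
      rw [neg_mul, Finset.sum_mul, ← Finset.sum_neg_distrib, ← Finset.sum_add_distrib]
      exact Finset.sum_congr rfl fun χ _ => by ring
    obtain ⟨h1, h2⟩ := eq_zero_of_add_root h0
    rw [neg_eq_zero] at h2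
    exact ⟨by exact_mod_cast h1, by exact_mod_cast h2⟩
  obtain ⟨kta, ktb⟩ := mixed _ t TT (nc (by rw [E.order_t, E.order_x]; norm_num))
  obtain ⟨kwa, kwb⟩ := mixed _ (x ^ 2) X2 (nc (by rw [hox2, E.order_x]; norm_num))
  obtain ⟨kya, kyb⟩ := mixed _ y YY (nc (by rw [E.order_y, E.order_x]; norm_num))
  obtain ⟨kfa, kfb⟩ := mixed _ 1 F (nc (by rw [orderOf_one, E.order_x]; norm_num))
  have kxx : ∑ χ, ((v χ).w * (v χ).w + 2 * ((v χ).u * (v χ).u)) = 8 := by
    have key := second_orthogonality x x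
    rw [if_pos (IsConj.refl _), E.cent_x] at key
    simp only [(hv _).x', map_add, map_mul, conj_root, map_intCast] at key
    have h0 : ((∑ χ, ((v χ).w * (v χ).w + 2 * ((v χ).u * (v χ).u)) : ℤ) : ℂ) = 8 := by
      rw [Nat.cast_ofNat] at key
      rw [← key]
      push_cast
      exact Finset.sum_congr rfl fun χ _ => by
        linear_combination (((v χ).u : ℂ) * ((v χ).u : ℂ)) * root_sq
    exact_mod_cast h0
  have kx7 : ∑ χ, ((v χ).w * (v χ).w - 2 * ((v χ).u * (v χ).u)) = 0 ∧ ∑ χ, 2 * ((v χ).w * (v χ).u) = 0 := by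
    have key := second_orthogonality x (x ^ 7)
    rw [if_neg E.not_conj_x] at key
    simp only [(hv _).x', (hv _).x7, map_sub, map_mul, conj_root, map_intCast] at key
    have h0 : ((∑ χ, (((v χ).w * (v χ).w - 2 * ((v χ).u * (v χ).u) : ℤ)) : ℚ) : ℂ) +
        ((∑ χ, (2 * ((v χ).w * (v χ).u) : ℤ) : ℚ) : ℂ) * root = 0 := by
      rw [← key]
      push_cast
      rw [Finset.sum_mul, ← Finset.sum_add_distrib]
      exact Finset.sum_congr rfl fun χ _ => by
        linear_combination (-((v χ).u : ℂ) * ((v χ).u : ℂ)) * root_sq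
    obtain ⟨h1, h2⟩ := eq_zero_of_add_root h0
    exact ⟨by exact_mod_cast h1, by exact_mod_cast h2⟩
  have kaa : ∑ χ, (v χ).w * (v χ).w = 4 := by
    have h1 := kxx
    have h2 := kx7.1
    rw [Finset.sum_add_distrib, ← Finset.mul_sum] at h1
    rw [Finset.sum_sub_distrib, ← Finset.mul_sum] at h2
    omega
  have kbb : ∑ χ, (v χ).u * (v χ).u = 2 := by
    have h1 := kxx
    rw [Finset.sum_add_distrib, ← Finset.mul_sum] at h1
    omega
  have kab : ∑ χ, (v χ).w * (v χ).u = 0 := by
    have h1 := kx7.2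
    rw [← Finset.mul_sum] at h1
    omega
  -- the trivial row
  set ones : V5 := ⟨1, 1, 1, 1, 0⟩ with hones
  have hone : v triv = ones ∧ f triv = 1 := by
    obtain ⟨h1, h2, h3, h4, h5, h6⟩ := hv triv
    simp only [htriv, trivIrr_coe] at h1 h2 h3 h4 h5 h6
    have a : (v triv).x = 1 := by rw [htriv]; exact_mod_cast h2.symm
    have b : (v triv).y = 1 := by rw [htriv]; exact_mod_cast h3.symm
    have c : (v triv).z = 1 := by rw [htriv]; exact_mod_cast h4.symm
    have d : (v triv).w = 1 ∧ (v triv).u = 0 := by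
      have h0 : (((v triv).w - 1 : ℤ) : ℚ) = 0 ∧ (((v triv).u : ℤ) : ℚ) = 0 := eq_zero_of_add_root (by
        rw [htriv]; push_cast; linear_combination -h5)
      exact ⟨by have := h0.1; norm_cast at this; omega, by exact_mod_cast h0.2⟩
    refine ⟨?_, by rw [htriv]; exact_mod_cast h1.symm⟩
    generalize v triv = V at a b c d
    obtain ⟨_, _, _, _, _⟩ := V
    simp only at a b c d
    obtain ⟨d, e⟩ := d
    subst a b c d e
    rfl
  set zero : V5 := ⟨0, 0, 0, 0, 0⟩ with hzero
  set S := (Finset.univ.erase triv).filter fun χ => v χ ≠ zero with hS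
  set sg : Cfsg.IrrCharacter G → ℤ := fun χ => if v χ ∈ glCands then 1 else -1 with hsg
  have sg2 : ∀ χ, sg χ * sg χ = 1 := fun χ => by simp only [hsg]; split_ifs <;> norm_num
  set can : Cfsg.IrrCharacter G → V5 := fun χ => scale (sg χ) (v χ) with hcan
  set sf : Cfsg.IrrCharacter G → ℤ := fun χ => sg χ * (f χ : ℤ) with hsf
  have hsplit : ∀ (T : Cfsg.IrrCharacter G → ℤ), (∀ χ, v χ = zero → T χ = 0) →
      ∑ χ, T χ = T triv + ∑ χ ∈ S, T χ := fun T hT => by
    rw [← Finset.add_sum_erase _ _ (Finset.mem_univ triv), hS]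
    congr 1
    symm
    exact Finset.sum_filter_of_ne (p := fun χ => v χ ≠ zero) fun χ _ h e => h (hT χ e)
  have hsplitQ : ∀ (T : Cfsg.IrrCharacter G → ℚ), (∀ χ, v χ = zero → T χ = 0) →
      ∑ χ, T χ = T triv + ∑ χ ∈ S, T χ := fun T hT => by
    rw [← Finset.add_sum_erase _ _ (Finset.mem_univ triv), hS]
    congr 1
    symm
    exact Finset.sum_filter_of_ne (p := fun χ => v χ ≠ zero) fun χ _ h e => h (hT χ e)
  have gram : ∀ (p q : V5 → ℤ) (k : ℤ), (∀ s a, p (scale s a) = s * p a) →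
      (∀ s a, q (scale s a) = s * q a) →
      (∑ χ, p (v χ) * q (v χ)) = k → ∑ χ ∈ S, p (can χ) * q (can χ) = k - p ones * q ones := by
    intro p q k hp hq hk
    have hp0 : p zero = 0 := by
      have := hp 0 zero
      rwa [zero_mul, show scale 0 zero = zero from rfl] at this
    rw [hsplit _ (fun χ e => by rw [e, hp0, zero_mul]), hone.1] at hk
    rw [Finset.sum_congr rfl (g := fun χ => p (v χ) * q (v χ)) fun χ _ => by
      simp only [hcan, hp, hq]
      linear_combination (p (v χ) * q (v χ)) * sg2 χ]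
    linarith
  set rows := S.toList.map can with hrows
  have htot : total rows = glGram := by
    rw [hrows, total_map,
      gram (·.x) (·.x) _ (fun _ _ => rfl) (fun _ _ => rfl) ktt,
      gram (·.y) (·.y) _ (fun _ _ => rfl) (fun _ _ => rfl) kww,
      gram (·.z) (·.z) _ (fun _ _ => rfl) (fun _ _ => rfl) kyy,
      gram (·.w) (·.w) _ (fun _ _ => rfl) (fun _ _ => rfl) kaa,
      gram (·.u) (·.u) _ (fun _ _ => rfl) (fun _ _ => rfl) kbb,
      gram (·.x) (·.y) _ (fun _ _ => rfl) (fun _ _ => rfl) ktw,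
      gram (·.x) (·.z) _ (fun _ _ => rfl) (fun _ _ => rfl) kty,
      gram (·.x) (·.w) _ (fun _ _ => rfl) (fun _ _ => rfl) kta,
      gram (·.x) (·.u) _ (fun _ _ => rfl) (fun _ _ => rfl) ktb,
      gram (·.y) (·.z) _ (fun _ _ => rfl) (fun _ _ => rfl) kwy,
      gram (·.y) (·.w) _ (fun _ _ => rfl) (fun _ _ => rfl) kwa,
      gram (·.y) (·.u) _ (fun _ _ => rfl) (fun _ _ => rfl) kwb,
      gram (·.z) (·.w) _ (fun _ _ => rfl) (fun _ _ => rfl) kya,
      gram (·.z) (·.u) _ (fun _ _ => rfl) (fun _ _ => rfl) kyb,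
      gram (·.w) (·.u) _ (fun _ _ => rfl) (fun _ _ => rfl) kab]
    simp [glGram, hones]
  have hmemS : ∀ χ ∈ S, can χ ∈ glCands := by
    intro χ hχ
    have hbox : (glGram.subSq (v χ)).Ok = true := by
      have hr : can χ ∈ rows := List.mem_map.2 ⟨χ, Finset.mem_toList.2 hχ, rfl⟩
      have ht : total (rows.erase (can χ)) = glGram.subSq (can χ) := by
        rw [← htot, total_perm (List.perm_cons_erase hr), total, subSq_addSq]
      have hok := ok_total (rows.erase (can χ))
      rw [ht] at hok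
      have e : glGram.subSq (can χ) = glGram.subSq (v χ) := by
        simp only [hcan, hsg]
        split_ifs <;> simp [scale, M5.subSq]
      rwa [e] at hok
    have hb := hbox
    simp only [M5.Ok, decide_eq_true_eq] at hb
    simp only [M5.subSq, glGram] at hb
    obtain ⟨bx, by', bz, bw, bu, -⟩ := hb
    obtain ⟨i, hi⟩ := natCast_oct_cases (x := (v χ).x) (c := 47) (b := 6) (by push_cast; linarith) (by norm_num)
    obtain ⟨j, hj⟩ := natCast_oct_cases (x := (v χ).y) (c := 7) (b := 2) (by push_cast; linarith) (by norm_num)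
    obtain ⟨k, hk⟩ := natCast_oct_cases (x := (v χ).z) (c := 5) (b := 2) (by push_cast; linarith) (by norm_num)
    obtain ⟨a, ha⟩ := natCast_oct_cases (x := (v χ).w) (c := 3) (b := 1) (by push_cast; linarith) (by norm_num)
    obtain ⟨b, hb'⟩ := natCast_oct_cases (x := (v χ).u) (c := 2) (b := 1) (by push_cast; linarith) (by norm_num)
    have hc := glCands_cover i j k a b
    have hv5 : v χ = ⟨((i : ℕ) : ℤ) - 6, ((j : ℕ) : ℤ) - 2, ((k : ℕ) : ℤ) - 2, ((a : ℕ) : ℤ) - 1, ((b : ℕ) : ℤ) - 1⟩ := by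
      push_cast at hi hj hk ha hb'
      rw [← hi, ← hj, ← hk, ← ha, ← hb']
    rw [← hv5] at hc
    have e1 : ((v χ).x - (v χ).z) % 3 = 0 := c3 χ
    have e2 : ((v χ).y - (v χ).w) % 2 = 0 := by have := c0 χ; have := c2 χ; omega
    have e3 : ((v χ).x - (v χ).y - 2 * (v χ).u) % 4 = 0 := by have := c2 χ; have := c4 χ; omega
    simp only [glCover, hbox, e1, e2, e3, beq_self_eq_true, Bool.and_self, Bool.not_true,
      Bool.false_or, decide_eq_true_eq] at hc
    rcases hc with h | h | h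
    · exact absurd h (Finset.mem_filter.1 hχ).2
    · simp only [hcan, hsg, if_pos h, scale, one_mul]; exact h
    · simp only [hcan, hsg]
      split_ifs with h'
      · simp only [scale, one_mul]; exact h'
      · simp only [scale, neg_one_mul]; exact h
  have hperm := gl_rows (rows := rows) (fun a ha => by
    obtain ⟨χ, hχ, rfl⟩ := List.mem_map.1 ha
    exact hmemS χ (Finset.mem_toList.1 hχ)) htot
  obtain ⟨ls, hls, hlmap⟩ := perm_lift can glRows S.toList hperm
  have hlen : ls.length = 7 := by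
    have := congrArg List.length hlmap
    simpa [glRows] using this
  obtain ⟨rD, rC, rA, rF, rE', rE, rB, rfl⟩ : ∃ a b c d e g h, ls = [a, b, c, d, e, g, h] := by
    match ls, hlen with
    | [a, b, c, d, e, g, h], _ => exact ⟨a, b, c, d, e, g, h, rfl⟩
  simp only [glRows, List.map_cons, List.map_nil, List.cons.injEq, and_true] at hlmap
  obtain ⟨qD, qC, qA, qF, qE', qE, qB⟩ := hlmap
  have colS : ∀ (p : V5 → ℤ), (∀ s a, p (scale s a) = s * p a) →
      (∑ χ, (f χ : ℤ) * p (v χ)) = 0 →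
      p (can rD) * sf rD + p (can rC) * sf rC + p (can rA) * sf rA + p (can rF) * sf rF +
        p (can rE') * sf rE' + p (can rE) * sf rE + p (can rB) * sf rB = - p ones := by
    intro p hp hk
    have hp0 : p zero = 0 := by
      have := hp 0 zero
      rwa [zero_mul, show scale 0 zero = zero from rfl] at this
    rw [hsplit _ (fun χ e => by rw [e, hp0, mul_zero]), hone.1, hone.2, Nat.cast_one, one_mul] at hk
    rw [Finset.sum_congr rfl (g := fun χ => p (can χ) * sf χ) fun χ _ => by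
      simp only [hcan, hsf, hp]
      linear_combination (-(p (v χ) * (f χ : ℤ))) * sg2 χ,
      ← sum_perm_toList S hls fun χ => p (can χ) * sf χ] at hk
    simp only [List.map_cons, List.map_nil, List.sum_cons, List.sum_nil] at hk
    linarith
  have ktf := (oct_column _ _ _ _ F TT).2 (nc (by rw [orderOf_one, E.order_t]; norm_num))
  have kwf := (oct_column _ _ _ _ F X2).2 (nc (by rw [orderOf_one, hox2]; norm_num))
  have kyf := (oct_column _ _ _ _ F YY).2 (nc (by rw [orderOf_one, E.order_y]; norm_num))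
  have st := colS (·.x) (fun _ _ => rfl) ktf
  have sw := colS (·.y) (fun _ _ => rfl) kwf
  have sy := colS (·.z) (fun _ _ => rfl) kyf
  have sa := colS (·.w) (fun _ _ => rfl) kfa
  have sb := colS (·.u) (fun _ _ => rfl) kfb
  simp only [qD, qC, qA, qF, qE', qE, qB, hones] at st sw sy sa sb
  have hf0 : ∀ χ, (f χ : ℚ) ≠ 0 := fun χ => by
    have := irr_one_ne_zero χ.2
    rw [(hv χ).one] at this
    exact_mod_cast this
  have hsf0 : ∀ χ, sf χ ≠ 0 := fun χ => by
    simp only [hsf]
    refine mul_ne_zero (fun h => by have := sg2 χ; rw [h] at this; simp at this) ?_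
    exact_mod_cast fun h : f χ = 0 => hf0 χ (by exact_mod_cast h)
  have hcong : ∀ χ, (sf χ + (can χ).x + 2 * (can χ).y + 4 * (can χ).w) % 8 = 0 ∧
      (sf χ - (can χ).x + 4 * (can χ).u) % 8 = 0 := fun χ => by
    have h1 := c0 χ
    have h2 := c4 χ
    simp only [hsf, hcan, hsg, scale]
    split_ifs <;> constructor <;> omega
  have hB8 : sf rB % 8 = 1 := by have h := (hcong rB).1; rw [qB] at h; simp only at h; omega
  have hD8 : sf rD % 8 = 4 := by have h := (hcong rD).1; rw [qD] at h; simp only at h; omega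
  -- the class multiplication constants
  have hn : (Nat.card G : ℂ) ≠ 0 := natCard_ne_zero
  have hs := BlocksChars.ClassAlg.classSize_mul_card_centralizer t
  rw [E.card] at hs
  have s1 : (BlocksChars.ClassAlg.classSize t : ℂ) * 48 = (Nat.card G : ℂ) := by exact_mod_cast hs
  have hzero' : Nat.card {u : G // IsConj t u ∧ IsConj t (u⁻¹ * x)} = 0 := by
    rw [Nat.card_eq_zero]
    refine Or.inl ⟨fun ⟨u, h1, h2⟩ => E.not_conj_x ?_⟩
    have sq : ∀ {g : G}, IsConj t g → g * g = 1 := fun {g} hg => by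
      obtain ⟨k, rfl⟩ := isConj_iff.1 hg
      rw [conj_mul, ← pow_two t, ← E.order_t, pow_orderOf_eq_one, mul_one, mul_inv_cancel]
    have hu := sq h1
    have hui : u⁻¹ = u := inv_eq_of_mul_eq_one_right hu
    have hux := sq h2
    rw [hui] at hux
    refine isConj_iff.2 ⟨u, ?_⟩
    rw [eq_inv_of_mul_eq_one_left (show x ^ 7 * x = 1 by rw [← pow_succ, hx8]), hui]
    exact eq_inv_of_mul_eq_one_left (by change u * x * u * x = 1; rw [← hux]; group)
  have sumx : ∑ χ, ((v χ).x : ℚ) * (v χ).x * (v χ).w / (f χ : ℚ) = 0 := by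
    have h2 := Recognition.SelfCentNine.card_mul_eq t t x
    rw [hzero'] at h2
    simp only [Nat.cast_zero, mul_zero, TT, (hv _).x', (hv _).one, map_add, map_mul, conj_root,
      map_intCast] at h2
    have hcs : (BlocksChars.ClassAlg.classSize t : ℂ) ≠ 0 := fun e => by
      rw [e, zero_mul] at s1; exact hn s1.symm
    have h3 := (mul_eq_zero.1 h2.symm).resolve_left (mul_ne_zero hcs hcs)
    have h0 : ((∑ χ, ((v χ).x : ℚ) * (v χ).x * (v χ).w / (f χ : ℚ) : ℚ) : ℂ) +
        ((-∑ χ, ((v χ).x : ℚ) * (v χ).x * (v χ).u / (f χ : ℚ) : ℚ) : ℂ) * root = 0 := by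
      rw [← h3]
      push_cast
      rw [neg_mul, Finset.sum_mul, ← Finset.sum_neg_distrib, ← Finset.sum_add_distrib]
      exact Finset.sum_congr rfl fun χ _ => by ring
    exact (eq_zero_of_add_root h0).1
  have sumy : (Nat.card G : ℚ) * ∑ χ, ((v χ).x : ℚ) * (v χ).x * (v χ).z / (f χ : ℚ) = 13824 := by
    have h2 := Recognition.SelfCentNine.card_mul_eq t t y
    rw [E.inverters hconj] at h2
    simp only [TT, YY, (hv _).one, map_intCast, Nat.cast_ofNat] at h2
    have hm : ((((Nat.card G : ℚ) * ∑ χ, ((v χ).x : ℚ) * (v χ).x * (v χ).z / (f χ : ℚ)) : ℚ) : ℂ) =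
        ((13824 : ℚ) : ℂ) := by
      push_cast
      generalize (∑ χ, ((v χ).x : ℂ) * ((v χ).x : ℂ) * ((v χ).z : ℂ) / (f χ : ℂ)) = T at h2 ⊢
      refine mul_left_cancel₀ hn ?_
      linear_combination (-(T * ((BlocksChars.ClassAlg.classSize t : ℂ) * 48 + (Nat.card G : ℂ)))) * s1 -
        2304 * h2
    exact_mod_cast hm
  have hterm : ∀ (q : V5 → ℤ), (∀ s a, q (scale s a) = s * q a) →
      ∑ χ, ((v χ).x : ℚ) * (v χ).x * q (v χ) / (f χ : ℚ) = (q ones : ℚ) +
        ([rD, rC, rA, rF, rE', rE, rB].map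
          fun χ => (((can χ).x * (can χ).x * q (can χ) : ℤ) : ℚ) / (sf χ : ℚ)).sum := by
    intro q hq
    rw [hsplitQ _ (fun χ e => by simp [e, hzero]), hone.1, hone.2, sum_perm_toList S hls]
    congr 1
    · simp [hones]
    · refine Finset.sum_congr rfl fun χ _ => ?_
      simp only [hcan, hsf, hq, hsg]
      have := hf0 χ
      split_ifs <;> simp only [scale] <;> push_cast <;> field_simp
  have ha := hterm (·.w) (fun _ _ => rfl)
  have hy := hterm (·.z) (fun _ _ => rfl)
  simp only [List.map_cons, List.map_nil, List.sum_cons, List.sum_nil, qD, qC, qA, qF, qE', qE, qB,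
    hones] at ha hy
  rw [sumx] at ha
  rw [hy] at sumy
  have eA : sf rA = -(sf rB + sf rD) := by omega
  have eC : sf rC = -1 - sf rD := by omega
  have eE : sf rE = 1 + sf rB + sf rD := by omega
  have eE' : sf rE' = sf rE := by omega
  have eF : sf rF = -sf rE := by omega
  have hB1 : sf rB ≠ 1 := by
    intro hb
    have hsgB : sg rB = 1 := by
      have h : 0 ≤ (f rB : ℤ) := by positivity
      rcases mul_self_eq_one_iff.1 (sg2 rB) with e | e
      · exact e
      · simp only [hsf, e] at hb; omega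
    simp only [hsf, hsgB, one_mul] at hb
    have hf1 : (rB : G → ℂ) 1 = 1 := by rw [F, hb, Int.cast_one]
    have hv' : v rB = ⟨1, 1, 1, -1, 0⟩ := by
      rw [← qB]
      simp [hcan, scale, hsgB]
    have hx := (hv rB).x'
    rw [hv', ← linearOfDegreeOne_apply (irr_isCharacter rB) hf1, hlin] at hx
    norm_num at hx
  have nA := hsf0 rA
  have nB := hsf0 rB
  have nC := hsf0 rC
  have nE := hsf0 rE
  have hkey : sf rA * sf rB * (-1 - sf rD) - 9 * sf rB * (-1 - sf rD) - sf rA * (-1 - sf rD) +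
      9 * sf rA * sf rB = 0 := by
    rw [← eC]
    have qA' : (sf rA : ℚ) ≠ 0 := by exact_mod_cast nA
    have qB' : (sf rB : ℚ) ≠ 0 := by exact_mod_cast nB
    have qC' : (sf rC : ℚ) ≠ 0 := by exact_mod_cast nC
    have h0 : ((sf rA * sf rB * sf rC - 9 * sf rB * sf rC - sf rA * sf rC + 9 * sf rA * sf rB : ℤ) : ℚ) = 0 := by
      norm_num [-Nat.card_eq_fintype_card] at ha
      push_cast
      field_simp at ha
      linear_combination -ha
    exact_mod_cast h0
  rcases solve eA hB1 hB8 hD8 hkey with ⟨eD, eB⟩ | ⟨eD, eB⟩ <;> rw [eD, eB] at eE <;>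
    rw [eF, eE', eE, eD, eB] at sumy <;> norm_num [-Nat.card_eq_fintype_card] at sumy
  · left
    have : (Nat.card G : ℚ) = 5616 := by linarith
    refine ⟨by exact_mod_cast this, ?_⟩
    choose cv hcv hcf hcz using fun χ => (hv χ).y2
    have kcc := (oct_column _ _ _ _ hcv hcv).1 (IsConj.refl _)
    have hc1 : cv triv = 1 := by
      have h := hcv triv
      simp only [htriv, trivIrr_coe] at h
      exact_mod_cast h.symm
    have hsub : ({triv, rB, rD} : Finset (Cfsg.IrrCharacter G)) ⊆ Finset.univ := Finset.subset_univ _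
    have hmem : ∀ χ ∈ [rD, rC, rA, rF, rE', rE, rB], χ ≠ triv := fun χ hχ => by
      have := Finset.mem_toList.1 (hls.subset hχ)
      exact (Finset.mem_erase.1 (Finset.mem_filter.1 this).1).1
    have hBD : rB ≠ rD := fun e => by
      rw [e, qD] at qB
      simp at qB
    have big : ∀ χ, sf χ % 3 = 0 → (can χ).z % 2 = 1 → 9 ≤ cv χ * cv χ := by
      intro χ h3 h2
      have d3 := hcf χ
      have d2 := hcz χ
      have h3' : (f χ : ℤ) % 3 = 0 := by
        simp only [hsf, hsg] at h3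
        split_ifs at h3 <;> omega
      have h2' : (v χ).z % 2 = 1 := by
        simp only [hcan, hsg, scale] at h2
        split_ifs at h2 <;> omega
      rcases (show cv χ ≤ -3 ∨ 3 ≤ cv χ by omega) with h | h <;> nlinarith
    have bB := big rB (by rw [eB]; rfl) (by rw [qB]; rfl)
    have bD := big rD (by rw [eD]; rfl) (by rw [qD]; rfl)
    have hle := Finset.sum_le_sum_of_subset_of_nonneg hsub (f := fun χ => cv χ * cv χ)
      (fun χ _ _ => mul_self_nonneg _)
    rw [Finset.sum_insert (by simp [(hmem rB (by simp)).symm, (hmem rD (by simp)).symm]),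
      Finset.sum_insert (by simp [hBD]), Finset.sum_singleton, kcc, hc1] at hle
    omega
  · right
    have : (Nat.card G : ℚ) = 7920 := by linarith
    exact_mod_cast this

end Cfsg.Agent.GLTwoThree
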