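import Cfsg.Agent.Lib.GLTwoThree.Local
import Cfsg.Agent.Lib.SelfNine.OctMain

/-!
# The values of the characters on the elements powering to the involution

A row records the values at `t`, `x²`, `y`, and `a`, `b` with value `a + b √-2` at `x`, where `x` has
order eight and `y` order six.
-/

set_option autoImplicit false
set_option linter.style.haveILetI false
set_option linter.unusedSectionVars false

namespace Cfsg.Agent.GLTwoThree

open Subgroup Cfsg.Agent.Characters Cfsg.Agent.SelfNine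
open scoped ComplexConjugate

/-- The square root of minus two. -/
noncomputable def root : ℂ := (Real.sqrt 2 : ℂ) * Complex.I

theorem root_sq : root * root = -2 := by
  have h : ((Real.sqrt 2 : ℝ) : ℂ) * (Real.sqrt 2 : ℝ) = 2 := by
    rw [← Complex.ofReal_mul, Real.mul_self_sqrt (by norm_num)]; norm_num
  calc root * root = ((Real.sqrt 2 : ℝ) : ℂ) * (Real.sqrt 2 : ℝ) * (Complex.I * Complex.I) := by
        rw [root]; ring
    _ = -2 := by rw [h, Complex.I_mul_I]; ring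

theorem conj_root : conj root = -root := by
  rw [root, map_mul, Complex.conj_ofReal, Complex.conj_I]; ring

theorem eq_zero_of_add_root {A B : ℚ} (h : (A : ℂ) + (B : ℂ) * root = 0) : A = 0 ∧ B = 0 := by
  have h' := congrArg conj h
  rw [map_add, map_mul, map_zero, conj_root, map_ratCast, map_ratCast] at h'
  have hA : (A : ℂ) = 0 := by linear_combination (h + h') / 2
  refine ⟨by exact_mod_cast hA, ?_⟩
  have hB : (B : ℂ) * (root * root) = 0 := by linear_combination root * h - root * hA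
  rw [root_sq] at hB
  have : (B : ℂ) = 0 := by linear_combination (-1 / 2 : ℂ) * hB
  exact_mod_cast this

/-- An eighth root of unity. -/
noncomputable def zeta : ℂ := ((Real.sqrt 2 : ℝ) : ℂ) / 2 * (1 + Complex.I)

theorem zeta_facts : zeta ^ 2 = Complex.I ∧ zeta ^ 8 = 1 ∧ zeta + zeta ^ 3 = root := by
  have h : ((Real.sqrt 2 : ℝ) : ℂ) * (Real.sqrt 2 : ℝ) = 2 := by
    rw [← Complex.ofReal_mul, Real.mul_self_sqrt (by norm_num)]; norm_num
  have h2 : zeta ^ 2 = Complex.I := by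
    rw [zeta]
    linear_combination ((1 + Complex.I) ^ 2 / 4) * h + (1 / 2 : ℂ) * Complex.I_mul_I
  refine ⟨h2, ?_, ?_⟩
  · rw [show (8 : ℕ) = 2 * 4 from rfl, pow_mul, h2, Complex.I_pow_four]
  · rw [pow_succ, h2, zeta, root]
    linear_combination (((Real.sqrt 2 : ℝ) : ℂ) / 2) * Complex.I_mul_I

/-- The row of a character. -/
structure RowGL {G : Type*} [Group G] (χ : G → ℂ) (t x y : G) (f : ℕ) (v : V5) : Prop where
  one : χ 1 = (f : ℂ)
  t' : χ t = (v.x : ℂ)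
  x2 : χ (x ^ 2) = (v.y : ℂ)
  y' : χ y = (v.z : ℂ)
  x' : χ x = (v.w : ℂ) + (v.u : ℂ) * root
  x7 : χ (x ^ 7) = (v.w : ℂ) - (v.u : ℂ) * root
  y2 : ∃ c : ℤ, χ (y ^ 2) = (c : ℂ) ∧ (3 : ℤ) ∣ (f : ℤ) - c ∧ (2 : ℤ) ∣ v.z - c

variable {G : Type*} [Group G] [Finite G] {t : G} {φ : GL23 →* G} (E : Embedded t φ)
include E

theorem Embedded.exists_row (χ : Cfsg.IrrCharacter G) : ∃ (f : ℕ) (v : V5),
    RowGL (χ : G → ℂ) t (φ X) (φ Y) f v ∧ ((f : ℤ) + v.x + 2 * v.y + 4 * v.w) % 8 = 0 ∧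
      ((f : ℤ) - v.x + 4 * v.u) % 8 = 0 ∧ ((f : ℤ) + v.x - 2 * v.y) % 8 = 0 ∧ (v.x - v.z) % 3 = 0 := by
  have h := irr_isCharacter χ
  obtain ⟨f, hf⟩ := char_one_nat h
  set x := φ X with hxdef
  have hx8 : x ^ 8 = 1 := by rw [← E.order_x, pow_orderOf_eq_one]
  have hx4 : x ^ 4 = t := by rw [hxdef, ← map_pow, X_pow.1, E.hT]
  have cl := fun {g k : G} (hc : IsConj g k) =>
    (BlocksChars.ClassAlg.classFun_eq_of_isConj (irr_isClassFunction χ) hc).symm
  have h3 : (χ : G → ℂ) (x ^ 3) = (χ : G → ℂ) x := (cl E.conj_x3)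
  have h6 : (χ : G → ℂ) (x ^ 6) = (χ : G → ℂ) (x ^ 2) := cl E.conj_x2
  have h7 : (χ : G → ℂ) (x ^ 7) = conj ((χ : G → ℂ) x) := by
    rw [← char_inv h, eq_inv_of_mul_eq_one_left (show x ^ 7 * x = 1 by rw [← pow_succ, hx8])]
  have h5 : (χ : G → ℂ) (x ^ 5) = conj ((χ : G → ℂ) x) := by
    rw [← h3, ← char_inv h, eq_inv_of_mul_eq_one_left (show x ^ 5 * x ^ 3 = 1 by rw [← pow_add, hx8])]
  obtain ⟨hz2, hz8, hzr⟩ := zeta_facts
  obtain ⟨m0, e0⟩ := mult h (by norm_num) hx8 (one_pow 8)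
  obtain ⟨m4, e4⟩ := mult h (by norm_num) hx8 (μ := -1) (by norm_num)
  obtain ⟨m2, e2⟩ := mult h (by norm_num) hx8 (μ := Complex.I) (by
    rw [show (8 : ℕ) = 4 * 2 from rfl, pow_mul, Complex.I_pow_four, one_pow])
  obtain ⟨m1, e1⟩ := mult h (by norm_num) hx8 (μ := zeta) hz8
  obtain ⟨k, ek⟩ := mult h (by norm_num) (x := x ^ 2) (p := 4) (by rw [← pow_mul, hx8]) (μ := Complex.I)
    Complex.I_pow_four
  simp only [← pow_mul] at ek
  simp only [Finset.sum_range_succ, Finset.sum_range_zero, pow_zero, pow_one, zero_add, inv_one, one_pow,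
    mul_one, h3, h5, h6, h7, hf, hx4, mul_zero, Nat.reduceMul] at e0 e4 e2 e1 ek
  have hzi : zeta⁻¹ = zeta ^ 7 := inv_eq_of_mul_eq_one_right (by rw [← pow_succ', hz8])
  rw [Complex.inv_I] at e2 ek
  rw [hzi] at e1
  simp only [← pow_mul, inv_neg, inv_one, Nat.reduceMul] at e1 e4
  have zp : ∀ n, zeta ^ (8 + n) = zeta ^ n := fun n => by rw [pow_add, hz8, one_mul]
  have z7 : zeta ^ 7 = -zeta ^ 3 := by
    rw [show 7 = 2 + 2 + 3 from rfl, pow_add, pow_add, hz2, Complex.I_mul_I]; ring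
  have z4 : zeta ^ 4 = -1 := by rw [show 4 = 2 + 2 from rfl, pow_add, hz2, Complex.I_mul_I]
  have z5 : zeta ^ 5 = -zeta := by rw [show 5 = 4 + 1 from rfl, pow_add, z4]; ring
  have z6 : zeta ^ 6 = -Complex.I := by rw [show 6 = 4 + 2 from rfl, pow_add, z4, hz2]; ring
  have p14 : zeta ^ 14 = -Complex.I := by rw [show 14 = 8 + 6 from rfl, zp, z6]
  have p21 : zeta ^ 21 = -zeta := by rw [show 21 = 8 + (8 + 5) from rfl, zp, zp, z5]
  have p28 : zeta ^ 28 = -1 := by rw [show 28 = 8 + (8 + (8 + 4)) from rfl, zp, zp, zp, z4]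
  have p35 : zeta ^ 35 = zeta ^ 3 := by rw [show 35 = 8 + (8 + (8 + (8 + 3))) from rfl, zp, zp, zp, zp]
  have p42 : zeta ^ 42 = Complex.I := by rw [show 42 = 8 + (8 + (8 + (8 + (8 + 2)))) from rfl, zp, zp, zp, zp, zp, hz2]
  have p49 : zeta ^ 49 = zeta := by
    rw [show 49 = 8 + (8 + (8 + (8 + (8 + (8 + 1))))) from rfl, zp, zp, zp, zp, zp, zp, pow_one]
  rw [z7, p14, p21, p28, p35, p42, p49] at e1
  have i4 : (-Complex.I) ^ 4 = 1 := by linear_combination Complex.I_pow_four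
  have i2 : (-Complex.I) ^ 2 = -1 := by linear_combination Complex.I_mul_I
  have i3 : (-Complex.I) ^ 3 = Complex.I := by linear_combination (-Complex.I) * Complex.I_mul_I
  have i5 : (-Complex.I) ^ 5 = -Complex.I := by rw [show 5 = 4 + 1 from rfl, pow_add, i4]; ring
  have i6 : (-Complex.I) ^ 6 = -1 := by rw [show 6 = 4 + 2 from rfl, pow_add, i4, i2]; ring
  have i7 : (-Complex.I) ^ 7 = Complex.I := by rw [show 7 = 4 + 3 from rfl, pow_add, i4, i3]; ring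
  rw [i4, i2, i3, i5, i6, i7] at e2
  rw [i2, i3] at ek
  norm_num at e4
  set z := (χ : G → ℂ) x
  set T' := (χ : G → ℂ) t
  set W' := (χ : G → ℂ) (x ^ 2)
  have hT' : T' = ((2 * (m0 : ℤ) + 2 * m4 + 4 * m2 - f : ℤ) : ℂ) := by
    push_cast; linear_combination (1 / 4 : ℂ) * e0 + (1 / 4 : ℂ) * e4 + (1 / 2 : ℂ) * e2
  have hW : W' = (((m0 : ℤ) + m4 - 2 * m2 : ℤ) : ℂ) := by
    push_cast; linear_combination (1 / 8 : ℂ) * e0 + (1 / 8 : ℂ) * e4 - (1 / 4 : ℂ) * e2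
  have hsum : z + conj z = 2 * (((m0 : ℤ) - m4 : ℤ) : ℂ) := by
    push_cast; linear_combination (1 / 4 : ℂ) * e0 - (1 / 4 : ℂ) * e4
  have hdiff : (f : ℂ) - T' - root * (z - conj z) = 8 * (m1 : ℂ) := by
    linear_combination e1 + (z - conj z) * hzr
  have hk : (f : ℂ) - T' = 4 * (k : ℂ) := by linear_combination ek
  have hzv : z = (((m0 : ℤ) - m4 : ℤ) : ℂ) + ((2 * (m1 : ℤ) - k : ℤ) : ℂ) * root := by
    push_cast at hsum ⊢
    linear_combination (1 / 2 : ℂ) * hsum + (1 / 4 : ℂ) * root * hdiff - (1 / 4 : ℂ) * root * hk +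
      ((z - conj z) / 4) * root_sq
  have hkt : (f : ℤ) - (2 * (m0 : ℤ) + 2 * m4 + 4 * m2 - f) = 4 * (k : ℤ) := by
    rw [hT'] at hk; exact_mod_cast hk
  set y := φ Y with hydef
  have hy6 : y ^ 6 = 1 := by rw [← E.order_y, pow_orderOf_eq_one]
  have hy3 : y ^ 3 = t := by rw [hydef, ← map_pow, Y_pow.1, E.hT]
  have hyr : (χ : G → ℂ) (y ^ 5) = (χ : G → ℂ) y := cl E.conj_y
  have hyr2 : (χ : G → ℂ) (y ^ 4) = (χ : G → ℂ) (y ^ 2) := by
    have := cl (E.conj_y.pow 2)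
    rwa [← pow_mul, show 5 * 2 = 6 + 4 from rfl, pow_add, hy6, one_mul] at this
  obtain ⟨d, c, hd, hc, hdc⟩ := three_value h (x := y ^ 2) (by rw [← pow_mul, hy6]) (by rw [← pow_mul, hyr2])
  obtain ⟨v, hv, hvc⟩ := six_value h hy6 hyr hyr2 hc
  have h3dvd := six_three h hy6 hyr hyr2 hc hv (v := 2 * (m0 : ℤ) + 2 * m4 + 4 * m2 - f) (by rw [hy3]; exact hT')
  refine ⟨f, ⟨2 * (m0 : ℤ) + 2 * m4 + 4 * m2 - f, (m0 : ℤ) + m4 - 2 * m2, v, (m0 : ℤ) - m4, 2 * (m1 : ℤ) - k⟩,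
    ⟨hf, hT', hW, hv, hzv, ?_, ⟨c, hc, ?_, hvc⟩⟩, ?_, ?_, ?_, ?_⟩
  · rw [h7]
    rw [hzv, map_add, map_mul, conj_root, map_intCast, map_intCast]
    ring
  · obtain rfl : d = f := by exact_mod_cast hd.symm.trans hf
    exact hdc
  all_goals simp only
  · omega
  · omega
  · omega
  · omega

end Cfsg.Agent.GLTwoThree
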