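import Cfsg.Agent.Lib.GLTwoThree.Simple

/-!
# The Sylow 3-subgroup in the group of order `5616`

It is non-abelian of exponent three, its elements are real, and a subgroup of index thirteen normalizes
one of its maximal subgroups.
-/

set_option autoImplicit false
set_option linter.style.haveILetI false
set_option linter.unusedSectionVars false

namespace Cfsg.Agent.GLTwoThree

open Subgroup

theorem Y_sq_facts : W * Y ^ 2 * W⁻¹ = (Y ^ 2)⁻¹ ∧ W * T = T * W ∧ (T * W) * (T * W) = 1 ∧
    (T * W) * Y ^ 2 * (T * W)⁻¹ = (Y ^ 2)⁻¹ ∧ T * W ≠ 1 := by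
  have h6 : Y ^ 6 = 1 := by rw [show 6 = 3 * 2 from rfl, pow_mul, Y_pow.1, pow_two, X_pow.2.2.1]
  have hinv : (Y ^ 2)⁻¹ = Y ^ 4 := inv_eq_of_mul_eq_one_right (by rw [← pow_add, h6])
  have h1 : W * Y ^ 2 * W⁻¹ = (Y ^ 2)⁻¹ := by
    rw [hinv, ← conj_pow, mul_inv_eq_iff_eq_mul.2 W_facts.2.2.2.2, ← pow_mul, show 5 * 2 = 6 + 4 from rfl,
      pow_add, h6, one_mul]
  have hc := T_central W
  have hT : T⁻¹ = T := inv_eq_of_mul_eq_one_right X_pow.2.2.1
  refine ⟨h1, hc, ?_, ?_, fun e => W_facts.2.2.1 ?_⟩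
  · calc T * W * (T * W) = T * (W * T) * W := by group
      _ = (T * T) * (W * W) := by rw [hc]; group
      _ = 1 := by rw [X_pow.2.2.1, W_facts.1, one_mul]
  · calc T * W * Y ^ 2 * (T * W)⁻¹ = T * (W * Y ^ 2 * W⁻¹) * T⁻¹ := by group
      _ = (Y ^ 2)⁻¹ := by rw [h1, ← T_central]; group
  · rw [← inv_eq_of_mul_eq_one_right e, hT]

/-- The data of the Sylow 3-subgroup centralizing the element `c` of order three. -/
structure ThreeData {G : Type*} [Group G] (t s c : G) (P : Sylow 3 G) : Prop where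
  tt : t * t = 1
  ss : s * s = 1
  ts : t * s = s * t
  cent : Nat.card (centralizer ({c} : Set G)) = 54
  hc : orderOf c = 3
  mem : ∀ g : G, g * c = c * g → orderOf g = 3 → g ∈ (P : Subgroup G)
  le : ∀ g ∈ (P : Subgroup G), g * c = c * g
  cP : c ∈ (P : Subgroup G)
  card : Nat.card (P : Subgroup G) = 27
  t_c : t * c = c * t
  s_c : s * c * s⁻¹ = c⁻¹
  normal : ∀ g : G, (g * c = c * g ∨ g * c * g⁻¹ = c⁻¹) → g ∈ normalizer ((P : Subgroup G) : Set G)
  small : ∀ u : G, IsConj t u → ∀ H : Subgroup G, IsPGroup 3 H → (∀ a ∈ H, a * u = u * a) → Nat.card H ≤ 3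
  cent_t : ∀ a ∈ (P : Subgroup G), a * t = t * a → a ∈ zpowers c
  conj_s : IsConj t s
  conj_ts : IsConj t (t * s)
  conj_c : ∀ g : G, orderOf g = 3 → (∃ u, IsConj t u ∧ g * u = u * g) → IsConj c g

variable {G : Type*} [Group G] [Finite G] {t : G} {φ : GL23 →* G} (E : Embedded t φ)
include E

theorem Embedded.small (H : Subgroup G) (hH : IsPGroup 3 H) (hc : ∀ a ∈ H, a * t = t * a) :
    Nat.card H ≤ 3 := by
  haveI : Fact (Nat.Prime 3) := ⟨Nat.prime_three⟩
  obtain ⟨n, hn⟩ := IsPGroup.iff_card.1 hH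
  have hd : Nat.card H ∣ 48 := E.card ▸ card_dvd_of_le (fun a ha => mem_centralizer_singleton_iff.2 (hc a ha))
  rw [hn] at hd ⊢
  rcases Nat.lt_or_ge n 2 with h | h
  · interval_cases n <;> norm_num
  · have := (pow_dvd_pow 3 h).trans hd
    norm_num at this

theorem Embedded.exists_threeData [IsSimpleGroup G] (hcard : Nat.card G = 5616)
    (h18 : 18 < Nat.card (centralizer ({φ Y ^ 2} : Set G)))
    (hall : ∀ u : G, orderOf u = 2 → IsConj t u) :
    ∃ P : Sylow 3 G, ThreeData t (φ W) (φ Y ^ 2) P := by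
  classical
  haveI : Fact (Nat.Prime 2) := ⟨Nat.prime_two⟩
  haveI : Fact (Nat.Prime 3) := ⟨Nat.prime_three⟩
  set c := φ Y ^ 2 with hcdef
  set s := φ W with hsdef
  have ht := E.order_t
  have tt : t * t = 1 := by rw [← pow_two, ← ht, pow_orderOf_eq_one]
  have hc : orderOf c = 3 := by rw [hcdef, orderOf_pow' _ two_ne_zero, E.order_y]; rfl
  have htc : t * c = c * t := by rw [hcdef, ← map_pow, ← E.hT, ← map_mul, ← map_mul, T_central]
  set C := centralizer ({c} : Set G) with hC
  have htC : t ∈ C := mem_centralizer_singleton_iff.2 htc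
  have hY : Y ^ 3 * Y ^ 2 * (Y ^ 2) = Y := by
    rw [← pow_add, ← pow_add, show 3 + 2 + 2 = 3 * 2 + 1 from rfl, pow_succ, pow_mul, Y_pow.1, pow_two,
      X_pow.2.2.1, one_mul]
  -- a power of two in the centralizer of `c` is at most two
  have h4 : ¬ 4 ∣ Nat.card C := by
    intro h4
    obtain ⟨R, hR⟩ := (IsPGroup.of_card (p := 2) (n := 1) (G := zpowers (⟨t, htC⟩ : C))
      (by rw [Nat.card_zpowers, orderOf_mk, ht]; rfl)).exists_le_sylow
    have htR : (⟨t, htC⟩ : C) ∈ (R : Subgroup C) := hR (mem_zpowers _)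
    have hR4 : 4 ∣ Nat.card (R : Subgroup C) := R.pow_dvd_card_of_pow_dvd_card (n := 2) h4
    haveI : Nontrivial (R : Subgroup C) := ⟨⟨⟨_, htR⟩, 1, fun e => by
      have := congrArg (fun a : (R : Subgroup C) => orderOf ((a : C) : G)) e
      simp [ht] at this⟩⟩
    haveI := R.2.center_nontrivial
    obtain ⟨zz, hzo⟩ := exists_prime_orderOf_dvd_card' (G := center (R : Subgroup C)) 2 (by
      obtain ⟨n, hn, hn'⟩ := (R.2.to_subgroup (center (R : Subgroup C))).nontrivial_iff_card.1 inferInstance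
      rw [hn']
      exact dvd_pow_self 2 hn.ne')
    obtain ⟨zr, hzc⟩ := zz
    obtain ⟨zC, hz⟩ := zr
    obtain ⟨z, hzC⟩ := zC
    rw [orderOf_mk, orderOf_mk, orderOf_mk] at hzo
    have hcomm : ∀ a : C, a ∈ (R : Subgroup C) → (a : G) * z = z * a := fun a ha =>
      congrArg (fun b : (R : Subgroup C) => ((b : C) : G)) (mem_center_iff.1 hzc ⟨a, ha⟩)
    -- `z` commutes with `t` and `c`, hence is `t`
    obtain ⟨k, rfl⟩ := (E.range z).1 (hcomm _ htR).symm
    have hky : k * Y ^ 2 = Y ^ 2 * k := E.inj (by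
      rw [map_mul, map_mul, map_pow]; exact mem_centralizer_singleton_iff.1 hzC)
    have hkY : k * Y = Y * k := by
      have h3 : Commute k (Y ^ 3) := by rw [Y_pow.1]; exact T_central k
      have := (h3.mul_right hky).mul_right hky
      rwa [hY] at this
    obtain ⟨i, rfl⟩ := comm_Y hkY
    rw [orderOf_injective φ E.inj, orderOf_pow, (orderOf_injective φ E.inj Y).symm.trans E.order_y] at hzo
    have key : ∀ j : Fin 6, 6 / Nat.gcd 6 (j : ℕ) = 2 → (j : ℕ) = 3 := by decide
    rw [key i hzo, Y_pow.1, E.hT] at hcomm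
    -- so the whole group lies in the centralizer of `t` and `c`, of order six
    have hle : (R : Subgroup C).map C.subtype ≤ zpowers (φ Y) := by
      rintro _ ⟨a, ha, rfl⟩
      obtain ⟨l, hl⟩ := (E.range _).1 (hcomm a ha)
      have hly : l * Y ^ 2 = Y ^ 2 * l := E.inj (by
        rw [map_mul, map_mul, map_pow, hl]; exact mem_centralizer_singleton_iff.1 a.2)
      have hlY : l * Y = Y * l := by
        have h3 : Commute l (Y ^ 3) := by rw [Y_pow.1]; exact T_central l
        have := (h3.mul_right hly).mul_right hly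
        rwa [hY] at this
      obtain ⟨j, rfl⟩ := comm_Y hlY
      exact ⟨(j : ℕ), by simp [← hl]⟩
    have h6 := card_dvd_of_le hle
    rw [card_map_of_injective C.subtype_injective, Nat.card_zpowers, E.order_y] at h6
    have := hR4.trans h6
    norm_num at this
  -- no element of order thirteen centralizes `t`
  have h13 : ¬ 13 ∣ Nat.card C := by
    intro h13
    haveI : Fact (Nat.Prime 13) := ⟨by norm_num⟩
    obtain ⟨⟨g, hg⟩, hgo⟩ := exists_prime_orderOf_dvd_card' (G := C) 13 h13
    rw [orderOf_mk] at hgo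
    have R : Sylow 13 G := default
    have hRc : Nat.card (R : Subgroup G) = 13 := by
      rw [Sylow.card_eq_multiplicity, hcard]; decide +kernel
    obtain ⟨S, hS⟩ := (IsPGroup.of_card (p := 13) (n := 1) (G := zpowers g) (by rw [Nat.card_zpowers, hgo]; rfl)).exists_le_sylow
    have hSc : Nat.card (S : Subgroup G) = 13 := by
      rw [Sylow.card_eq_multiplicity, hcard]; decide +kernel
    have hSeq : zpowers g = (S : Subgroup G) := eq_of_le_of_card_ge hS (by rw [hSc, Nat.card_zpowers, hgo])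
    have hcN : zpowers c ≤ centralizer ((S : Subgroup G) : Set G) := by
      rw [zpowers_le, mem_centralizer_iff, ← hSeq]
      rintro _ ⟨j, rfl⟩
      have hgc : Commute g c := mem_centralizer_singleton_iff.1 hg
      exact (hgc.zpow_left j).eq
    have hd : 39 ∣ Nat.card (centralizer ((S : Subgroup G) : Set G)) := by
      refine Nat.Coprime.mul_dvd_of_dvd_of_dvd (show Nat.Coprime 3 13 by norm_num) ?_ ?_
      · have := card_dvd_of_le hcN
        rwa [Nat.card_zpowers, hc] at this
      · have := card_dvd_of_le (H := zpowers g) (K := centralizer ((S : Subgroup G) : Set G)) ?_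
        · rwa [Nat.card_zpowers, hgo] at this
        rw [zpowers_le, mem_centralizer_iff, ← hSeq]
        rintro _ ⟨j, rfl⟩
        exact ((Commute.refl g).zpow_left j).eq
    have hN : 39 ∣ Nat.card (normalizer ((S : Subgroup G) : Set G)) :=
      hd.trans (card_dvd_of_le (centralizer_le_normalizer _))
    have hn13 := card_sylow_modEq_one 13 G
    have hidx := (normalizer ((S : Subgroup G) : Set G)).index_mul_card
    have hS' : Nat.card (Sylow 13 G) = (normalizer ((S : Subgroup G) : Set G)).index := S.card_eq_index_normalizer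
    rw [← hS', hcard] at hidx
    obtain ⟨q, hq⟩ := hN
    rw [hq] at hidx
    have hnd : Nat.card (Sylow 13 G) ∣ 144 := ⟨q, by
      have : Nat.card (Sylow 13 G) * q * 39 = 144 * 39 := by rw [mul_assoc, mul_comm q 39]; simpa using hidx
      exact (Nat.eq_of_mul_eq_mul_right (by norm_num) this).symm⟩
    have key : ∀ m ∈ Nat.divisors 144, m % 13 = 1 → m = 1 ∨ m = 144 := by decide +kernel
    rcases key _ (Nat.mem_divisors.2 ⟨hnd, by norm_num⟩) hn13 with h | h
    · have hnorm : (S : Subgroup G).Normal := by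
        rw [← normalizer_eq_top_iff, ← index_eq_one, ← hS']; exact h
      rcases hnorm.eq_bot_or_eq_top with e | e
      · rw [e, card_bot] at hSc; norm_num at hSc
      · rw [e, card_top, hcard] at hSc; norm_num at hSc
    · rw [h] at hidx
      have hq1 : q = 1 := by omega
      have heq : normalizer ((S : Subgroup G) : Set G) ≤ centralizer ((S : Subgroup G) : Set G) := by
        refine (eq_of_le_of_card_ge (centralizer_le_normalizer _) ?_).ge
        rw [hq, hq1, mul_one]
        exact Nat.le_of_dvd Nat.card_pos hd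
      have hker : (MonoidHom.transferSylow S heq).ker = ⊥ := by
        refine (MonoidHom.normal_ker _).eq_bot_or_eq_top.resolve_right fun e => ?_
        have hcomp := MonoidHom.ker_transferSylow_isComplement' S heq
        rw [e] at hcomp
        have := isComplement'_top_left.1 hcomp
        rw [this, card_bot] at hSc
        norm_num at hSc
      have hcomp := MonoidHom.ker_transferSylow_isComplement' S heq
      rw [hker] at hcomp
      have := isComplement'_bot_left.1 hcomp
      rw [this, card_top, hcard] at hSc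
      norm_num at hSc
  have hC54 : Nat.card C = 54 := by
    have hd : Nat.card C ∣ 5616 := hcard ▸ C.card_subgroup_dvd_card
    have h2 : 2 ∣ Nat.card C := by
      have := orderOf_dvd_natCard (⟨t, htC⟩ : C)
      rwa [orderOf_mk, ht] at this
    have key : ∀ m ∈ Nat.divisors 5616, ¬ 13 ∣ m → ¬ 4 ∣ m → 2 ∣ m → 18 < m → m = 54 := by decide +kernel
    exact key _ (Nat.mem_divisors.2 ⟨hd, by norm_num⟩) h13 h4 h2 h18
  obtain ⟨R, hRc⟩ : ∃ R : Subgroup C, Nat.card R = 27 :=
    Sylow.exists_subgroup_card_pow_prime (G := C) 3 (n := 3) (by rw [hC54]; norm_num)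
  haveI hRn : R.Normal := normal_of_index_eq_two (by
    have := R.index_mul_card
    rw [hRc, hC54] at this
    omega)
  have hP' : Nat.card (R.map C.subtype) = 27 := by rw [card_map_of_injective C.subtype_injective, hRc]
  obtain ⟨P, hP⟩ := (IsPGroup.of_card (p := 3) (n := 3) (G := R.map C.subtype) (by rw [hP']; rfl)).exists_le_sylow
  have hPc : Nat.card (P : Subgroup G) = 27 := by
    rw [Sylow.card_eq_multiplicity, hcard]; decide +kernel
  have hPeq : R.map C.subtype = (P : Subgroup G) := eq_of_le_of_card_ge hP (by rw [hP', hPc])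
  have hsub : IsPGroup 3 R := IsPGroup.of_card (p := 3) (n := 3) (by rw [hRc]; rfl)
  have hmem : ∀ g : G, g * c = c * g → orderOf g = 3 → g ∈ (P : Subgroup G) := by
    intro g hg ho
    have hgC : g ∈ C := mem_centralizer_singleton_iff.2 hg
    have h2 : (⟨g, hgC⟩ : C) ^ 2 ∈ R := sq_mem_of_index_two (by
      have := R.index_mul_card
      rw [hRc, hC54] at this
      omega) _
    have h3 : ((⟨g, hgC⟩ : C) ^ 2) ^ 2 ∈ R := pow_mem h2 2
    rw [← pow_mul, show 2 * 2 = 3 + 1 from rfl, pow_succ] at h3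
    have h3' : (⟨g, hgC⟩ : C) ^ 3 = 1 :=
      Subtype.ext (by rw [SubmonoidClass.coe_pow, ← ho]; exact pow_orderOf_eq_one g)
    rw [h3', one_mul] at h3
    rw [← hPeq]
    exact ⟨_, h3, rfl⟩
  refine ⟨P, ⟨tt, ?_, ?_, hC54, hc, hmem, ?_, hmem c rfl hc, hPc, htc, ?_, ?_, ?_, ?_, ?_, ?_, ?_⟩⟩
  · rw [hsdef, ← map_mul, W_facts.1, map_one]
  · rw [hsdef, ← E.hT, ← map_mul, ← map_mul, T_central]
  · intro g hg
    rw [← hPeq] at hg
    obtain ⟨a, -, rfl⟩ := hg
    exact mem_centralizer_singleton_iff.1 a.2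
  · rw [hsdef, hcdef, ← map_pow, ← map_inv, ← map_inv, ← map_mul, ← map_mul, Y_sq_facts.1]
  · intro g hg
    have hgC : ∀ a : G, a ∈ C → g * a * g⁻¹ ∈ C := by
      intro a ha
      rw [hC, mem_centralizer_singleton_iff] at ha ⊢
      rcases hg with hg | hg
      · have h1 : g * c * g⁻¹ = c := by rw [hg, mul_inv_cancel_right]
        calc g * a * g⁻¹ * c = g * a * g⁻¹ * (g * c * g⁻¹) := by rw [h1]
          _ = g * (a * c) * g⁻¹ := by group
          _ = g * (c * a) * g⁻¹ := by rw [ha]
          _ = g * c * g⁻¹ * (g * a * g⁻¹) := by group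
          _ = _ := by rw [h1]
      · have h1 : g * c⁻¹ * g⁻¹ = c := by rw [← inv_inj, mul_inv_rev, mul_inv_rev, inv_inv, inv_inv, ← mul_assoc, hg]
        have ha' : a * c⁻¹ = c⁻¹ * a := (Commute.inv_right ha).eq
        calc g * a * g⁻¹ * c = g * a * g⁻¹ * (g * c⁻¹ * g⁻¹) := by rw [h1]
          _ = g * (a * c⁻¹) * g⁻¹ := by group
          _ = g * (c⁻¹ * a) * g⁻¹ := by rw [ha']
          _ = g * c⁻¹ * g⁻¹ * (g * a * g⁻¹) := by group
          _ = _ := by rw [h1]
    have hle : (P : Subgroup G).map (MulAut.conj g).toMonoidHom ≤ P := by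
      rw [← hPeq]
      rintro _ ⟨_, ⟨a, ha, rfl⟩, rfl⟩
      let b : C := ⟨g * a * g⁻¹, hgC a a.2⟩
      refine ⟨b, ?_, rfl⟩
      have hb : IsPGroup 3 (zpowers b) := fun x => by
        obtain ⟨j, hj⟩ := hsub ⟨a, ha⟩
        obtain ⟨i, hi⟩ := mem_zpowers_iff.1 x.2
        refine ⟨j, Subtype.ext ?_⟩
        rw [SubgroupClass.coe_pow, ← hi, ← zpow_natCast, ← zpow_mul, mul_comm, zpow_mul, zpow_natCast]
        have ha1 : (a : G) ^ 3 ^ j = 1 := congrArg (fun z : R => ((z : C) : G)) hj
        have : b ^ 3 ^ j = 1 := Subtype.ext (by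
          change (g * (a : G) * g⁻¹) ^ 3 ^ j = 1
          rw [conj_pow, ha1, mul_one, mul_inv_cancel])
        rw [this, one_zpow]; rfl
      have hmap : IsPGroup 3 ((zpowers b).map (QuotientGroup.mk' R)) := hb.map _
      obtain ⟨n, hn⟩ := IsPGroup.iff_card.1 hmap
      have hd : Nat.card ((zpowers b).map (QuotientGroup.mk' R)) ∣ 2 := by
        have := ((zpowers b).map (QuotientGroup.mk' R)).card_subgroup_dvd_card
        rwa [← index_eq_card, show R.index = 2 by have := R.index_mul_card; rw [hRc, hC54] at this; omega] at this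
      rw [hn] at hd
      have hn0 : n = 0 := by
        by_contra h0
        have := (dvd_pow_self 3 h0).trans hd
        norm_num at this
      rw [hn0, pow_zero, card_eq_one, Subgroup.map_eq_bot_iff, QuotientGroup.ker_mk', zpowers_le] at hn
      exact hn
    have heq := eq_of_le_of_card_ge hle (by rw [card_map_of_injective (MulAut.conj g).injective])
    rw [mem_normalizer_iff]
    intro a
    constructor
    · intro ha; exact hle ⟨a, ha, rfl⟩
    · intro ha
      rw [← heq] at ha
      obtain ⟨b, hb, hbe⟩ := ha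
      have := (MulAut.conj g).injective hbe
      rwa [← this]
  · intro u hu H hH hcH
    obtain ⟨g, rfl⟩ := isConj_iff.1 hu
    rw [Nat.card_congr (H.equivMapOfInjective (MulAut.conj g⁻¹).toMonoidHom (MulAut.conj g⁻¹).injective).toEquiv]
    refine E.small _ (hH.map _) ?_
    rintro _ ⟨a, ha, rfl⟩
    change g⁻¹ * a * g⁻¹⁻¹ * t = t * (g⁻¹ * a * g⁻¹⁻¹)
    calc g⁻¹ * a * g⁻¹⁻¹ * t = g⁻¹ * (a * (g * t * g⁻¹)) * g := by group
      _ = g⁻¹ * (g * t * g⁻¹ * a) * g := by rw [hcH a ha]
      _ = _ := by group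
  · intro a ha hat
    set Q := (P : Subgroup G) ⊓ centralizer ({t} : Set G) with hQ
    have hQle : zpowers c ≤ Q := le_inf (zpowers_le.2 (hmem c rfl hc))
      (zpowers_le.2 (mem_centralizer_singleton_iff.2 htc.symm))
    have hQ3 := E.small Q (P.2.to_le inf_le_left) fun b hb => mem_centralizer_singleton_iff.1 hb.2
    rw [eq_of_le_of_card_ge hQle (by rw [Nat.card_zpowers, hc]; exact hQ3)]
    exact ⟨ha, mem_centralizer_singleton_iff.2 hat⟩
  · exact hall _ (by rw [hsdef, orderOf_injective φ E.inj]; exact orderOf_eq_prime (p := 2) (by rw [pow_two, W_facts.1]) W_facts.2.1)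
  · refine hall _ ?_
    rw [hsdef, ← E.hT, ← map_mul, orderOf_injective φ E.inj]
    exact orderOf_eq_prime (p := 2) (by rw [pow_two, Y_sq_facts.2.2.1]) Y_sq_facts.2.2.2.2
  · rintro g hg ⟨u, hu, hgu⟩
    obtain ⟨h, rfl⟩ := isConj_iff.1 hu
    have hg' : h⁻¹ * g * h * t = t * (h⁻¹ * g * h) := by
      calc h⁻¹ * g * h * t = h⁻¹ * (g * (h * t * h⁻¹)) * h := by group
        _ = h⁻¹ * (h * t * h⁻¹ * g) * h := by rw [hgu]
        _ = _ := by group
    obtain ⟨k, hk⟩ := (E.range _).1 hg'
    have ho : orderOf k = 3 := by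
      rw [← orderOf_injective φ E.inj, hk, ← hg]
      simpa [MulAut.conj_apply] using orderOf_injective (MulAut.conj h⁻¹).toMonoidHom (MulAut.conj h⁻¹).injective g
    have hk1 : k ≠ 1 := fun e => by rw [e, orderOf_one] at ho; norm_num at ho
    obtain ⟨l, hl⟩ := (three_cases (orderOf_dvd_iff_pow_eq_one.1 (dvd_of_eq ho))).resolve_left hk1
    have h1 : IsConj c (φ k) := by
      rw [hcdef, ← map_pow]
      exact φ.map_isConj (isConj_iff.2 ⟨l, by rw [mul_inv_eq_iff_eq_mul]; exact hl⟩)
    rw [hk] at h1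
    exact h1.trans (isConj_iff.2 ⟨h, by group⟩)

end Cfsg.Agent.GLTwoThree
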